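import Mathlib.GroupTheory.Sylow
import Mathlib.LinearAlgebra.Matrix.SpecialLinearGroup
import Mathlib.Tactic
import Cfsg.Prelude.Def_PLocal
import Cfsg.Prelude.Def_LocalEven
import Cfsg.Agent.Lib.Involves
import Cfsg.Agent.PLocal.QdSection
set_option linter.all false

/-!
A finite group whose Sylow `p`-subgroups intersect pairwise trivially does not involve `Qd(p)`, `p` odd.
-/

set_option autoImplicit false

namespace Cfsg.Agent.H96.QdTI

open Cfsg.Agent.Lib.Involves Cfsg.Agent.PLocal.QdSection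

/-- every member of the set generating `Qd(p)` is in the row form, and conversely -/
theorem row_of_mem_qd {p : ℕ} {M : Matrix.SpecialLinearGroup (Fin 3) (ZMod p)}
    (hM : M ∈ Cfsg.qd p) : ∃ (v : V p) (A : S2 p), M = transl v * diag A := by
  unfold Cfsg.qd at hM
  induction hM using Subgroup.closure_induction with
  | mem x hx => exact exists_of_row x hx.1 hx.2.1 hx.2.2
  | one => exact ⟨1, 1, by simp⟩
  | mul x y _ _ hx hy =>
    obtain ⟨v, A, rfl⟩ := hx
    obtain ⟨w, B, rfl⟩ := hy
    refine ⟨v * act A w, A * B, ?_⟩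
    rw [map_mul, map_mul]
    calc transl v * diag A * (transl w * diag B) = transl v * (diag A * transl w) * diag B := by group
      _ = transl v * (transl (act A w) * diag A) * diag B := by rw [diag_mul_transl]
      _ = _ := by group
  | inv x _ hx =>
    obtain ⟨v, A, rfl⟩ := hx
    refine ⟨act A⁻¹ v⁻¹, A⁻¹, ?_⟩
    rw [← diag_mul_transl, map_inv, map_inv]
    group

/-- the translations, inside `Qd(p)` -/
def translHom (p : ℕ) : V p →* ↥(Cfsg.qd p) := (transl (p := p)).codRestrict _ transl_mem_qd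

/-- the translation subgroup of `Qd(p)` -/
def T (p : ℕ) : Subgroup ↥(Cfsg.qd p) := (translHom p).range

theorem T_normal (p : ℕ) : (T p).Normal := by
  constructor
  rintro _ ⟨w, rfl⟩ ⟨g, hg⟩
  obtain ⟨v, A, rfl⟩ := row_of_mem_qd hg
  refine ⟨act A w, ?_⟩
  apply Subtype.ext
  change transl (act A w) = transl v * diag A * transl w * (transl v * diag A)⁻¹
  have h1 : transl v * transl (act A w) = transl (act A w) * transl v := by
    rw [← map_mul, ← map_mul, mul_comm]
  calc transl (act A w) = transl v * transl (act A w) * (transl v)⁻¹ := by rw [h1]; group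
    _ = transl v * (transl (act A w) * diag A) * (transl v * diag A)⁻¹ := by group
    _ = _ := by rw [← diag_mul_transl]; group

theorem T_pgroup (p : ℕ) [Fact p.Prime] : IsPGroup p (T p) := by
  have h : IsPGroup p (V p) := by
    rintro v
    refine ⟨1, ?_⟩
    rw [pow_one]
    apply Multiplicative.toAdd.injective
    rw [toAdd_pow, toAdd_one]
    funext i
    simp
  exact h.of_surjective (translHom p).rangeRestrict (translHom p).rangeRestrict_surjective

theorem T_ne_bot (p : ℕ) [Fact p.Prime] : T p ≠ ⊥ := by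
  intro h
  have h1 : translHom p (Multiplicative.ofAdd ![1, 0]) ∈ T p := ⟨_, rfl⟩
  rw [h, Subgroup.mem_bot] at h1
  have h2 := congrArg Subtype.val (congrArg Subtype.val h1)
  change !![1, 0, (1 : ZMod p); 0, 1, 0; 0, 0, 1] = 1 at h2
  have h3 := congrFun (congrFun h2 0) 2
  simp at h3

/-- an upper unitriangular element of the complement -/
def ua (p : ℕ) : S2 p := ⟨!![1, 1; 0, 1], by simp [Matrix.det_fin_two_of]⟩

/-- a lower unitriangular element of the complement -/
def ub (p : ℕ) : S2 p := ⟨!![1, 0; -1, 1], by simp [Matrix.det_fin_two_of]⟩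

theorem ua_pow (p k : ℕ) : (ua p ^ k).1 = !![1, (k : ZMod p); 0, 1] := by
  induction k with
  | zero =>
    rw [pow_zero]
    change (1 : Matrix (Fin 2) (Fin 2) (ZMod p)) = _
    ext i j
    fin_cases i <;> fin_cases j <;> simp
  | succ k ih =>
    rw [pow_succ, Matrix.SpecialLinearGroup.coe_mul]
    change (ua p ^ k).1 * !![1, 1; 0, 1] = _
    rw [ih]
    ext i j
    fin_cases i <;> fin_cases j <;> simp [Matrix.mul_apply, Fin.sum_univ_two, add_comm]

theorem ub_pow (p k : ℕ) : (ub p ^ k).1 = !![1, 0; -(k : ZMod p), 1] := by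
  induction k with
  | zero =>
    rw [pow_zero]
    change (1 : Matrix (Fin 2) (Fin 2) (ZMod p)) = _
    ext i j
    fin_cases i <;> fin_cases j <;> simp
  | succ k ih =>
    rw [pow_succ, Matrix.SpecialLinearGroup.coe_mul]
    change (ub p ^ k).1 * !![1, 0; -1, 1] = _
    rw [ih]
    ext i j
    fin_cases i <;> fin_cases j <;> simp [Matrix.mul_apply, Fin.sum_univ_two] <;> ring

theorem ua_pow_p (p : ℕ) : ua p ^ p = 1 := by
  apply Subtype.ext
  rw [ua_pow]
  change _ = (1 : Matrix (Fin 2) (Fin 2) (ZMod p))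
  ext i j
  fin_cases i <;> fin_cases j <;> simp

theorem ub_pow_p (p : ℕ) : ub p ^ p = 1 := by
  apply Subtype.ext
  rw [ub_pow]
  change _ = (1 : Matrix (Fin 2) (Fin 2) (ZMod p))
  ext i j
  fin_cases i <;> fin_cases j <;> simp

theorem uab_pow_three (p : ℕ) : (ua p * ub p) ^ 3 = -1 := by
  apply Subtype.ext
  rw [Matrix.SpecialLinearGroup.coe_pow, Matrix.SpecialLinearGroup.coe_mul]
  change (!![1, 1; 0, 1] * !![1, 0; -1, 1] : Matrix (Fin 2) (Fin 2) (ZMod p)) ^ 3 = _
  rw [Matrix.SpecialLinearGroup.coe_neg, Matrix.SpecialLinearGroup.coe_one]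
  ext i j
  fin_cases i <;> fin_cases j <;> simp [pow_succ, Matrix.mul_apply, Fin.sum_univ_two]

theorem diag_injective (p : ℕ) : Function.Injective (diag (p := p)) := by
  intro A B h
  have h1 := congrArg Subtype.val h
  rw [diag_apply, diag_apply] at h1
  apply Subtype.ext
  ext i j
  have h2 := congrFun (congrFun h1 (Fin.castSucc i)) (Fin.castSucc j)
  fin_cases i <;> fin_cases j <;> simpa using h2

theorem two_ne {p : ℕ} [Fact p.Prime] (hp : p ≠ 2) : (2 : ZMod p) ≠ 0 := by
  intro h
  have h1 : ((2 : ℕ) : ZMod p) = 0 := by exact_mod_cast h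
  rw [ZMod.natCast_eq_zero_iff] at h1
  have h2 := (Nat.prime_dvd_prime_iff_eq (Fact.out : p.Prime) Nat.prime_two).1 h1
  exact hp h2

/-- the Sylow `p`-subgroups of `Qd(p)` are not normal -/
theorem sylow_not_normal {p : ℕ} [Fact p.Prime] (hp : p ≠ 2) (P : Sylow p ↥(Cfsg.qd p)) :
    ¬ (P : Subgroup ↥(Cfsg.qd p)).Normal := by
  intro hn
  haveI : Finite ↥(Cfsg.qd p) := inferInstance
  have hmem : ∀ A : S2 p, A ^ p = 1 → (⟨diag A, diag_mem_qd A⟩ : ↥(Cfsg.qd p)) ∈ (P : Subgroup _) := by
    intro A hA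
    have h1 : IsPGroup p (Subgroup.zpowers (⟨diag A, diag_mem_qd A⟩ : ↥(Cfsg.qd p))) := by
      have h2 : (⟨diag A, diag_mem_qd A⟩ : ↥(Cfsg.qd p)) ^ p = 1 := by
        apply Subtype.ext
        change diag A ^ p = 1
        rw [← map_pow, hA, map_one]
      rw [IsPGroup.iff_orderOf]
      rintro ⟨x, hx⟩
      obtain ⟨k, rfl⟩ := Subgroup.mem_zpowers_iff.1 hx
      have h3 : orderOf (⟨_, hx⟩ : Subgroup.zpowers (⟨diag A, diag_mem_qd A⟩ : ↥(Cfsg.qd p))) ∣ p := by
        rw [orderOf_dvd_iff_pow_eq_one]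
        apply Subtype.ext
        change ((⟨diag A, diag_mem_qd A⟩ : ↥(Cfsg.qd p)) ^ k) ^ p = 1
        rw [← zpow_natCast, ← zpow_mul, mul_comm, zpow_mul, zpow_natCast, h2, one_zpow]
      rcases (Nat.dvd_prime (Fact.out : p.Prime)).1 h3 with h | h
      · exact ⟨0, by rw [h, pow_zero]⟩
      · exact ⟨1, by rw [h, pow_one]⟩
    obtain ⟨Q, hQ⟩ := h1.exists_le_sylow
    have : Q = P := by
      haveI := Sylow.unique_of_normal P hn
      exact Subsingleton.elim _ _
    rw [← this]
    exact hQ (Subgroup.mem_zpowers _)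
  have ha := hmem _ (ua_pow_p p)
  have hb := hmem _ (ub_pow_p p)
  have hab := (P : Subgroup ↥(Cfsg.qd p)).mul_mem ha hb
  have h3 := (P : Subgroup ↥(Cfsg.qd p)).pow_mem hab 3
  have h4 : ((⟨diag (ua p), diag_mem_qd (ua p)⟩ : ↥(Cfsg.qd p)) * ⟨diag (ub p), diag_mem_qd (ub p)⟩) ^ 3 =
      ⟨diag (-1), diag_mem_qd (-1)⟩ := by
    apply Subtype.ext
    change (diag (ua p) * diag (ub p)) ^ 3 = diag (-1)
    rw [← map_mul, ← map_pow, uab_pow_three]
  rw [h4] at h3
  obtain ⟨k, hk⟩ := P.isPGroup' ⟨_, h3⟩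
  have hk2 := congrArg Subtype.val (congrArg Subtype.val hk)
  change diag (-1) ^ (p ^ k) = 1 at hk2
  rw [← map_pow] at hk2
  have hodd : Odd (p ^ k) := ((Fact.out : p.Prime).odd_of_ne_two hp).pow
  rw [hodd.neg_one_pow, ← map_one diag] at hk2
  have h5 := congrArg Subtype.val (diag_injective p hk2)
  rw [Matrix.SpecialLinearGroup.coe_neg, Matrix.SpecialLinearGroup.coe_one] at h5
  have h6 := congrFun (congrFun h5 0) 0
  simp at h6
  apply two_ne hp
  linear_combination -h6

/-- `Qd(p)` is not a section of a finite group in which the normalizer of every nontrivial `p`-subgroup has a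
normal Sylow `p`-subgroup -/
theorem not_involves_of_normalizers {p : ℕ} [Fact p.Prime] (hp : p ≠ 2) {G : Type*} [Group G] [Finite G]
    (h : ∀ Q : Subgroup G, IsPGroup p Q → Q ≠ ⊥ →
      Subsingleton (Sylow p (Subgroup.normalizer (Q : Set G)))) :
    ¬ Lib.Involves.Involves G ↥(Cfsg.qd p) := by
  rintro ⟨K, f, hf⟩
  have hTn := T_normal p
  -- a Sylow `p`-subgroup of the preimage of the translations
  set M : Subgroup K := Subgroup.comap f (T p) with hM
  haveI hMn : M.Normal := hTn.comap f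
  obtain ⟨S⟩ : Nonempty (Sylow p M) := inferInstance
  set S0 : Subgroup K := (S : Subgroup M).map M.subtype with hS0
  have hSM : S0 ≤ M := Subgroup.map_subtype_le _
  -- `S0` maps onto `T`
  have hSp : IsPGroup p S0 := S.isPGroup'.map _
  have hST : S0.map f = T p := by
    let g : M →* T p := f.subgroupComap (T p)
    have hg : Function.Surjective g := by
      rintro ⟨y, hy⟩
      obtain ⟨x, hx⟩ := hf y
      refine ⟨⟨x, ?_⟩, ?_⟩
      · rw [hM, Subgroup.mem_comap, hx]
        exact hy
      · apply Subtype.ext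
        exact hx
    have h1 : ((S.mapSurjective hg : Sylow p (T p)) : Subgroup (T p)) = ⊤ := by
      obtain ⟨Q⟩ : Nonempty (Sylow p (T p)) := inferInstance
      have h2 : IsPGroup p (⊤ : Subgroup (T p)) := (T_pgroup p).to_subgroup _
      exact ((S.mapSurjective hg).3 h2 le_top).symm
    have h2 : (S : Subgroup M).map g = ⊤ := h1
    apply le_antisymm
    · rintro _ ⟨x, hx, rfl⟩
      exact hSM hx
    · intro y hy
      have h3 : (⟨y, hy⟩ : T p) ∈ (S : Subgroup M).map g := by rw [h2]; trivial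
      obtain ⟨x, hx, hxy⟩ := h3
      exact ⟨x.1, ⟨x, hx, rfl⟩, congrArg Subtype.val hxy⟩
  have hS0ne : S0 ≠ ⊥ := by
    intro h0
    apply T_ne_bot p
    rw [← hST, h0, Subgroup.map_bot]
  -- Frattini
  have hF : Subgroup.normalizer (S0 : Set K) ⊔ M = ⊤ := Sylow.normalizer_sup_eq_top S
  set N := Subgroup.normalizer (S0 : Set K) with hN
  have hfN : ∀ y, ∃ x : N, f x = y := by
    intro y
    obtain ⟨k, rfl⟩ := hf y
    have hk : k ∈ (M ⊔ N : Subgroup K) := by
      rw [sup_comm, hF]; trivial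
    obtain ⟨m, hm, n, hn, rfl⟩ := Subgroup.mem_sup_of_normal_left.1 hk
    have h1 : f m ∈ S0.map f := by rw [hST]; exact hm
    obtain ⟨s, hs, hsm⟩ := h1
    refine ⟨⟨s * n, N.mul_mem (Subgroup.le_normalizer hs) hn⟩, ?_⟩
    rw [map_mul, map_mul, hsm]
  -- the map from the normalizer in `G`
  have hsub : Subsingleton (Sylow p N) := by
    let Q : Subgroup G := S0.map K.subtype
    have hQ : IsPGroup p Q := hSp.map _
    have hQne : Q ≠ ⊥ := by
      intro h0
      apply hS0ne
      exact (Subgroup.map_eq_bot_iff_of_injective _ K.subtype_injective).1 h0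
    have h1 := h Q hQ hQne
    let j : N →* Subgroup.normalizer (Q : Set G) :=
      { toFun := fun x => ⟨x.1.1, by
          have hx : ∀ s : K, s ∈ S0 ↔ x.1 * s * x.1⁻¹ ∈ S0 :=
            Subgroup.mem_normalizer_iff.1 x.2
          rw [Subgroup.mem_normalizer_iff]
          intro g
          constructor
          · rintro ⟨s, hs, rfl⟩
            exact ⟨x.1 * s * x.1⁻¹, (hx s).1 hs, rfl⟩
          · rintro ⟨s, hs, hsg⟩
            refine ⟨x.1⁻¹ * s * x.1, ?_, ?_⟩
            · change x.1⁻¹ * s * x.1 ∈ S0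
              rw [hx]
              have : x.1 * (x.1⁻¹ * s * x.1) * x.1⁻¹ = s := by group
              rw [this]; exact hs
            · change (x.1 : G)⁻¹ * (s : G) * x.1 = g
              have hsg' : (s : G) = x.1 * g * (x.1 : G)⁻¹ := hsg
              rw [hsg']; group⟩
        map_one' := rfl
        map_mul' := fun _ _ => rfl }
    have hj : Function.Injective j := by
      intro x y hxy
      have h2 : (x.1.1 : G) = y.1.1 := congrArg (fun z : Subgroup.normalizer (Q : Set G) => z.1) hxy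
      exact Subtype.ext (Subtype.ext h2)
    obtain ⟨P⟩ : Nonempty (Sylow p (Subgroup.normalizer (Q : Set G))) := inferInstance
    have hall : ∀ R : Sylow p N, (R : Subgroup N) = (P : Subgroup _).comap j := by
      intro R
      have hR : IsPGroup p ((R : Subgroup N).map j) := R.isPGroup'.map _
      obtain ⟨P', hP'⟩ := hR.exists_le_sylow
      have : P' = P := Subsingleton.elim _ _
      subst this
      have h3 : (R : Subgroup N) ≤ (P' : Subgroup _).comap j := Subgroup.map_le_iff_le_comap.1 hP'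
      have h4 : IsPGroup p ((P' : Subgroup _).comap j) := P'.isPGroup'.comap_of_injective j hj
      exact (R.3 h4 h3).symm
    refine ⟨fun R R' => ?_⟩
    apply Sylow.ext
    rw [hall R, hall R']
  obtain ⟨R⟩ : Nonempty (Sylow p N) := inferInstance
  have hRn : (R : Subgroup N).Normal := Sylow.normal_of_subsingleton R
  let g : N →* ↥(Cfsg.qd p) := f.comp N.subtype
  have hg : Function.Surjective g := fun y => by
    obtain ⟨x, hx⟩ := hfN y
    exact ⟨x, hx⟩
  have hfin : Finite ↥(Cfsg.qd p) := inferInstance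
  apply sylow_not_normal hp (R.mapSurjective hg)
  have : ((R.mapSurjective hg : Sylow p _) : Subgroup ↥(Cfsg.qd p)) = (R : Subgroup N).map g := rfl
  rw [this]
  exact hRn.map g hg

/-- `Qd(p)` is not a section of a finite group whose Sylow `p`-subgroups intersect pairwise trivially -/
theorem not_involves_of_ti {p : ℕ} [Fact p.Prime] (hp : p ≠ 2) {G : Type*} [Group G] [Finite G]
    (h : ∀ P Q : Sylow p G, (P : Subgroup G) ⊓ (Q : Subgroup G) ≠ ⊥ → P = Q) :
    ¬ Lib.Involves.Involves G ↥(Cfsg.qd p) := by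
  apply not_involves_of_normalizers hp
  intro Q hQ hQne
  set N := Subgroup.normalizer (Q : Set G) with hN
  obtain ⟨P, hP⟩ := hQ.exists_le_sylow
  have hall : ∀ R : Sylow p N, (R : Subgroup N) = (P : Subgroup G).comap N.subtype := by
    intro R
    let Q' : Subgroup N := Q.subgroupOf N
    have hQ'n : Q'.Normal := Subgroup.normal_in_normalizer
    have hQ'p : IsPGroup p Q' := hQ.comap_of_injective _ N.subtype_injective
    have hle : Q' ≤ R := by
      have h1 : IsPGroup p (Q' ⊔ (R : Subgroup N) : Subgroup N) := hQ'p.to_sup_of_normal_left R.isPGroup'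
      rw [← R.3 h1 le_sup_right]
      exact le_sup_left
    have hR : IsPGroup p ((R : Subgroup N).map N.subtype) := R.isPGroup'.map _
    obtain ⟨P', hP'⟩ := hR.exists_le_sylow
    have hPP : P' = P := by
      apply h
      intro h0
      apply hQne
      rw [eq_bot_iff, ← h0]
      refine le_inf ?_ hP
      refine le_trans ?_ hP'
      intro x hx
      have hxN : x ∈ N := Subgroup.le_normalizer hx
      exact ⟨⟨x, hxN⟩, hle hx, rfl⟩
    subst hPP
    have h3 : (R : Subgroup N) ≤ (P' : Subgroup _).comap N.subtype := Subgroup.map_le_iff_le_comap.1 hP'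
    have h4 : IsPGroup p ((P' : Subgroup _).comap N.subtype) :=
      P'.isPGroup'.comap_of_injective _ N.subtype_injective
    exact (R.3 h4 h3).symm
  refine ⟨fun R R' => ?_⟩
  apply Sylow.ext
  rw [hall R, hall R']

/-- the form used in the statements -/
theorem not_involves_of_ti' {p : ℕ} [Fact p.Prime] (hp : p ≠ 2) {G : Type*} [Group G] [Finite G]
    (h : ∀ P Q : Sylow p G, (P : Subgroup G) ⊓ (Q : Subgroup G) ≠ ⊥ → P = Q) :
    ¬ Cfsg.Involves ↥(Cfsg.qd p) G :=
  fun hi => not_involves_of_ti hp h (involves_iff.2 hi)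

/-- a criterion for trivial intersection through a family of `p`-subgroups (such as vector stabilizers) -/
theorem ti_of_family {p : ℕ} [Fact p.Prime] {G : Type*} [Group G] {ι : Type*}
    (S : ι → Subgroup G) (hS : ∀ i, IsPGroup p (S i))
    (h1 : ∀ Q : Subgroup G, IsPGroup p Q → Q ≠ ⊥ → ∃ i, Q ≤ S i)
    (h2 : ∀ i j, ∀ g ∈ S i, g ∈ S j → g ≠ 1 → S i = S j) :
    ∀ P Q : Sylow p G, (P : Subgroup G) ⊓ (Q : Subgroup G) ≠ ⊥ → P = Q := by
  intro P Q hPQ
  obtain ⟨g, hg1⟩ := Subgroup.ne_bot_iff_exists_ne_one.1 hPQ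
  have hP0 : (P : Subgroup G) ≠ ⊥ := fun h0 => hPQ (by rw [h0, bot_inf_eq])
  have hQ0 : (Q : Subgroup G) ≠ ⊥ := fun h0 => hPQ (by rw [h0, inf_bot_eq])
  obtain ⟨i, hi⟩ := h1 P P.isPGroup' hP0
  obtain ⟨j, hj⟩ := h1 Q Q.isPGroup' hQ0
  have hPi := P.3 (hS i) hi
  have hQj := Q.3 (hS j) hj
  have h3 := h2 i j g.1 (hi g.2.1) (hj g.2.2) (fun h => hg1 (Subtype.ext h))
  apply Sylow.ext
  rw [← hPi, ← hQj, h3]

end Cfsg.Agent.H96.QdTI
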