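import Mathlib.GroupTheory.Sylow
import Mathlib.LinearAlgebra.Matrix.SpecialLinearGroup
import Mathlib.LinearAlgebra.Matrix.ToLinearEquiv
import Mathlib.LinearAlgebra.Matrix.Charpoly.Coeff
import Mathlib.FieldTheory.Finiteness
import Mathlib.Tactic
import Cfsg.Prelude.Def_Classical
import Cfsg.Agent.LieClassical.HermBasic
import Cfsg.Agent.H96.QdTI
set_option linter.all false

/-!
In `SL₂(K)` and `SU₃(q)`, the Sylow subgroups for the defining prime intersect pairwise trivially.
-/

set_option autoImplicit false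

namespace Cfsg.Agent.H96.TISylow

open Matrix

/-- a `p`-subgroup of `SL_n(K)`, `K` finite of characteristic `p`, has a nonzero fixed vector in every nonzero
invariant subspace -/
theorem exists_fixed_vec {n : ℕ} {K : Type*} [Field K] [Finite K] {p : ℕ} [hp : Fact p.Prime] [CharP K p]
    (Q : Subgroup (SpecialLinearGroup (Fin n) K)) (hQ : IsPGroup p Q) (W : Submodule K (Fin n → K))
    (hW : ∀ g ∈ Q, ∀ w ∈ W, g.1 *ᵥ w ∈ W) (hW0 : W ≠ ⊥) :
    ∃ w ∈ W, w ≠ 0 ∧ ∀ g ∈ Q, g.1 *ᵥ w = w := by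
  classical
  letI : MulAction Q W :=
    { smul := fun g w => ⟨g.1.1 *ᵥ w.1, hW g.1 g.2 w.1 w.2⟩
      one_smul := fun w => by
        apply Subtype.ext
        change (1 : Matrix (Fin n) (Fin n) K) *ᵥ w.1 = w.1
        exact Matrix.one_mulVec _
      mul_smul := fun g h w => by
        apply Subtype.ext
        change (g.1.1 * h.1.1) *ᵥ w.1 = g.1.1 *ᵥ (h.1.1 *ᵥ w.1)
        exact (Matrix.mulVec_mulVec _ _ _).symm }
  have hsm : ∀ (g : Q) (w : W), (g • w).1 = g.1.1 *ᵥ w.1 := fun _ _ => rfl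
  haveI := Fintype.ofFinite K
  have hpK : p ∣ Nat.card K := by
    obtain ⟨m, -, hm⟩ := FiniteField.card K p
    rw [Nat.card_eq_fintype_card, hm]
    exact dvd_pow_self p m.2.ne'
  have hcard : p ∣ Nat.card W := by
    have h1 : Nat.card W = Nat.card K ^ Module.finrank K W := by
      rw [Nat.card_eq_fintype_card, Nat.card_eq_fintype_card]
      exact Module.card_eq_pow_finrank
    rw [h1]
    refine dvd_pow hpK ?_
    have := (Submodule.one_le_finrank_iff (S := W)).2 hW0
    omega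
  have h0 : (0 : W) ∈ MulAction.fixedPoints Q W := by
    intro g
    apply Subtype.ext
    rw [hsm]
    exact Matrix.mulVec_zero _
  obtain ⟨b, hb, hb0⟩ := hQ.exists_fixed_point_of_prime_dvd_card_of_fixed_point W hcard h0
  refine ⟨b.1, b.2, fun h => hb0 (Subtype.ext h.symm), fun g hg => ?_⟩
  have := hb ⟨g, hg⟩
  have := congrArg Subtype.val this
  rwa [hsm] at this

/-- a unipotent matrix has `p`-power order -/
theorem pow_eq_one_of_nilp {n : ℕ} {K : Type*} [Field K] {p : ℕ} [hp : Fact p.Prime] [CharP K p]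
    {g : SpecialLinearGroup (Fin n) K} {m : ℕ} (h : (g.1 - 1) ^ m = 0) : ∃ k : ℕ, g ^ (p ^ k) = 1 := by
  cases n with
  | zero => exact ⟨0, Subsingleton.elim _ _⟩
  | succ n =>
  refine ⟨m, ?_⟩
  have h1 : m ≤ p ^ m := (Nat.lt_pow_self hp.out.one_lt).le
  have h2 : (g.1 - 1) ^ (p ^ m) = 0 := by
    rw [← Nat.sub_add_cancel h1, pow_add, h, mul_zero]
  rw [sub_pow_char_pow_of_commute _ _ (Commute.one_right _), one_pow, sub_eq_zero] at h2
  apply Subtype.ext
  exact (Matrix.SpecialLinearGroup.coe_pow g (p ^ m)).trans h2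

/-! ### `SL₂` -/

section SLTwo

variable {K : Type*} [Field K]

/-- vector stabilizers in `SL_n(K)` -/
def vstab {n : ℕ} (G : Subgroup (SpecialLinearGroup (Fin n) K)) (v : Fin n → K) : Subgroup G where
  carrier := {g | g.1.1 *ᵥ v = v}
  mul_mem' := by
    intro a b ha hb
    change (a.1.1 * b.1.1) *ᵥ v = v
    rw [← Matrix.mulVec_mulVec]
    change b.1.1 *ᵥ v = v at hb
    rw [hb]; exact ha
  one_mem' := by
    change (1 : Matrix (Fin n) (Fin n) K) *ᵥ v = v
    exact Matrix.one_mulVec _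
  inv_mem' := by
    intro a ha
    change a.1.1 *ᵥ v = v at ha
    change (a⁻¹).1.1 *ᵥ v = v
    conv_lhs => rw [← ha]
    rw [Matrix.mulVec_mulVec]
    have : (a⁻¹).1.1 * a.1.1 = 1 := by
      have := congrArg (fun z : G => z.1.1) (inv_mul_cancel a)
      exact this
    rw [this, Matrix.one_mulVec]

theorem mem_vstab {n : ℕ} {G : Subgroup (SpecialLinearGroup (Fin n) K)} {v : Fin n → K} {g : G} :
    g ∈ vstab G v ↔ g.1.1 *ᵥ v = v := Iff.rfl

theorem vstab_smul {n : ℕ} {G : Subgroup (SpecialLinearGroup (Fin n) K)} {v : Fin n → K} {c : K}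
    (hc : c ≠ 0) : vstab G (c • v) = vstab G v := by
  ext g
  rw [mem_vstab, mem_vstab, Matrix.mulVec_smul]
  constructor
  · intro h
    exact smul_right_injective _ hc h
  · intro h
    rw [h]

theorem sl_two_nilp {g : SpecialLinearGroup (Fin 2) K} {v : Fin 2 → K} (hv : v ≠ 0)
    (h : g.1 *ᵥ v = v) : (g.1 - 1) ^ 2 = 0 := by
  have hdet := g.2
  rw [Matrix.det_fin_two] at hdet
  have h0 : g.1 0 0 * v 0 + g.1 0 1 * v 1 = v 0 := by
    have := congrFun h 0
    simpa [Matrix.mulVec, dotProduct, Fin.sum_univ_two] using this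
  have h1 : g.1 1 0 * v 0 + g.1 1 1 * v 1 = v 1 := by
    have := congrFun h 1
    simpa [Matrix.mulVec, dotProduct, Fin.sum_univ_two] using this
  have ht : g.1 0 0 + g.1 1 1 = 2 := by
    by_cases hv0 : v 0 = 0
    · have hv1 : v 1 ≠ 0 := by
        intro hv1
        apply hv
        funext i
        fin_cases i
        · exact hv0
        · exact hv1
      apply mul_right_cancel₀ hv1
      rw [hv0, mul_zero, zero_add] at h0 h1
      have hb : g.1 0 1 = 0 := (mul_eq_zero.1 h0).resolve_right hv1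
      rw [hb] at hdet
      have hd : g.1 1 1 = 1 := by
        apply mul_right_cancel₀ hv1
        rw [h1, one_mul]
      rw [hd] at hdet ⊢
      linear_combination v 1 * hdet
    · apply mul_right_cancel₀ hv0
      linear_combination (v 0) * hdet - (g.1 1 1 - 1) * h0 + g.1 0 1 * h1
  ext i j
  fin_cases i <;> fin_cases j <;>
    simp [pow_two, Matrix.mul_apply, Fin.sum_univ_two]
  · linear_combination (g.1 0 0) * ht - hdet
  · linear_combination (g.1 0 1) * ht
  · linear_combination (g.1 1 0) * ht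
  · linear_combination (g.1 1 1) * ht - hdet

theorem isPGroup_vstab_two {p : ℕ} [hp : Fact p.Prime] [CharP K p]
    (G : Subgroup (SpecialLinearGroup (Fin 2) K)) {v : Fin 2 → K} (hv : v ≠ 0) :
    IsPGroup p (vstab G v) := by
  rintro ⟨g, hg⟩
  obtain ⟨k, hk⟩ := pow_eq_one_of_nilp (p := p) (sl_two_nilp hv hg)
  exact ⟨k, Subtype.ext (Subtype.ext hk)⟩

/-- a nontrivial element of `SL₂` fixes only multiples of one vector -/
theorem sl_two_eq_one {g : SpecialLinearGroup (Fin 2) K} {v w : Fin 2 → K}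
    (h : g.1 *ᵥ v = v) (h' : g.1 *ᵥ w = w) (hvw : v 0 * w 1 - v 1 * w 0 ≠ 0) : g = 1 := by
  have h0 : g.1 0 0 * v 0 + g.1 0 1 * v 1 = v 0 := by
    have := congrFun h 0
    simpa [Matrix.mulVec, dotProduct, Fin.sum_univ_two] using this
  have h1 : g.1 1 0 * v 0 + g.1 1 1 * v 1 = v 1 := by
    have := congrFun h 1
    simpa [Matrix.mulVec, dotProduct, Fin.sum_univ_two] using this
  have h0' : g.1 0 0 * w 0 + g.1 0 1 * w 1 = w 0 := by
    have := congrFun h' 0
    simpa [Matrix.mulVec, dotProduct, Fin.sum_univ_two] using this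
  have h1' : g.1 1 0 * w 0 + g.1 1 1 * w 1 = w 1 := by
    have := congrFun h' 1
    simpa [Matrix.mulVec, dotProduct, Fin.sum_univ_two] using this
  apply Subtype.ext
  change g.1 = (1 : Matrix (Fin 2) (Fin 2) K)
  ext i j
  fin_cases i <;> fin_cases j <;> simp <;> apply mul_right_cancel₀ hvw
  · linear_combination w 1 * h0 - v 1 * h0'
  · linear_combination (- w 0) * h0 + v 0 * h0'
  · linear_combination w 1 * h1 - v 1 * h1'
  · linear_combination (- w 0) * h1 + v 0 * h1'

theorem smul_of_det_two {v w : Fin 2 → K} (hv : v ≠ 0) (hw : w ≠ 0)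
    (hvw : v 0 * w 1 - v 1 * w 0 = 0) : ∃ c : K, c ≠ 0 ∧ w = c • v := by
  by_cases hv0 : v 0 = 0
  · have hv1 : v 1 ≠ 0 := by
      intro hv1
      apply hv
      funext i
      fin_cases i
      · exact hv0
      · exact hv1
    have hw0 : w 0 = 0 := by
      rw [hv0, zero_mul, zero_sub, neg_eq_zero] at hvw
      exact (mul_eq_zero.1 hvw).resolve_left hv1
    have e : w = (w 1 / v 1) • v := by
      funext i
      fin_cases i
      · simp [hw0, hv0]
      · simp [hv1]
    refine ⟨w 1 / v 1, ?_, e⟩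
    intro h0
    rw [h0, zero_smul] at e
    exact hw e
  · have e : w = (w 0 / v 0) • v := by
      funext i
      fin_cases i
      · simp [hv0]
      · simp
        field_simp
        linear_combination hvw
    refine ⟨w 0 / v 0, ?_, e⟩
    intro h0
    rw [h0, zero_smul] at e
    exact hw e

/-- the Sylow `p`-subgroups of a subgroup of `SL₂(K)` intersect pairwise trivially -/
theorem sl_two_ti [Finite K] {p : ℕ} [hp : Fact p.Prime] [CharP K p]
    (G : Subgroup (SpecialLinearGroup (Fin 2) K)) (P Q : Sylow p G)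
    (h : (P : Subgroup G) ⊓ (Q : Subgroup G) ≠ ⊥) : P = Q := by
  refine QdTI.ti_of_family (ι := {v : Fin 2 → K // v ≠ 0}) (fun v => vstab G v.1)
    (fun v => isPGroup_vstab_two G v.2) ?_ ?_ P Q h
  · intro R hR _
    have hR' : IsPGroup p (R.map G.subtype) := hR.map _
    obtain ⟨w, -, hw0, hw⟩ := exists_fixed_vec (R.map G.subtype) hR' ⊤ (fun _ _ _ _ => trivial)
      (by
        intro h0
        have h1 := (Submodule.eq_bot_iff _).1 h0 (fun _ => 1) trivial
        exact one_ne_zero (congrFun h1 0))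
    refine ⟨⟨w, hw0⟩, fun g hg => ?_⟩
    exact hw g.1 ⟨g, hg, rfl⟩
  · rintro ⟨v, hv⟩ ⟨w, hw⟩ g hg hg' hg1
    by_cases hvw : v 0 * w 1 - v 1 * w 0 = 0
    · obtain ⟨c, hc, rfl⟩ := smul_of_det_two hv hw hvw
      exact (vstab_smul hc).symm
    · exact absurd (Subtype.ext (sl_two_eq_one hg hg' hvw)) hg1

end SLTwo

/-! ### `SU₃` -/

section SUThree

open Cfsg Cfsg.Agent.LieClassical.HermBasic

variable {K : Type*} [Field K]

/-- the determinant of three vectors -/
def D (a b c : Fin 3 → K) : K := (Matrix.of ![a, b, c]).det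

theorem D_add (a b c c' : Fin 3 → K) : D a b (c + c') = D a b c + D a b c' := by
  simp [D, Matrix.det_fin_three]
  ring

theorem D_add' (a b b' c : Fin 3 → K) : D a (b + b') c = D a b c + D a b' c := by
  simp [D, Matrix.det_fin_three]
  ring

theorem D_map (g : Matrix (Fin 3) (Fin 3) K) (a b c : Fin 3 → K) :
    D (g *ᵥ a) (g *ᵥ b) (g *ᵥ c) = g.det * D a b c := by
  simp [D, Matrix.det_fin_three, Matrix.mulVec, dotProduct, Fin.sum_univ_three]
  ring

theorem D_rel {a b c : Fin 3 → K} (h : D a b c = 0) :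
    ∃ α β γ : K, (α ≠ 0 ∨ β ≠ 0 ∨ γ ≠ 0) ∧ α • a + β • b + γ • c = 0 := by
  obtain ⟨x, hx, hx2⟩ := Matrix.exists_vecMul_eq_zero_iff.2 h
  refine ⟨x 0, x 1, x 2, ?_, ?_⟩
  · by_contra hcon
    simp only [not_or, not_not] at hcon
    apply hx
    funext i
    fin_cases i
    · exact hcon.1
    · exact hcon.2.1
    · exact hcon.2.2
  · funext i
    have := congrFun hx2 i
    simpa [Matrix.vecMul, dotProduct, Fin.sum_univ_three] using this

variable [Fintype K] {q : ℕ} (hF : Fintype.card K = q ^ 2)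

omit [Fintype K] in
/-- three vectors orthogonal to a nonzero vector are dependent -/
theorem D_eq_zero {v a b c : Fin 3 → K} (hv : v ≠ 0) (ha : hermForm 3 K q a v = 0)
    (hb : hermForm 3 K q b v = 0) (hc : hermForm 3 K q c v = 0) (hq : q ≠ 0) : D a b c = 0 := by
  apply Matrix.exists_mulVec_eq_zero_iff.1
  refine ⟨fun i => v i ^ q, ?_, ?_⟩
  · intro h0
    apply hv
    funext i
    have := congrFun h0 i
    exact (pow_eq_zero_iff hq).1 this
  · funext i
    simp only [herm_def, Fin.sum_univ_three] at ha hb hc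
    fin_cases i
    · simpa [Matrix.mulVec, dotProduct, Fin.sum_univ_three] using ha
    · simpa [Matrix.mulVec, dotProduct, Fin.sum_univ_three] using hb
    · simpa [Matrix.mulVec, dotProduct, Fin.sum_univ_three] using hc

include hF in
/-- the span argument: if `u, x` are orthogonal to the isotropic `v`, `v` and `u` independent, then `x` is a
combination of `v` and `u` -/
theorem exists_comb {v u x : Fin 3 → K} (hv : v ≠ 0) (hvv : hermForm 3 K q v v = 0)
    (hu : hermForm 3 K q u v = 0) (hx : hermForm 3 K q x v = 0) (huv : ∀ c : K, u ≠ c • v) :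
    ∃ a b : K, x = a • v + b • u := by
  have hq : q ≠ 0 := (q_pos hF).ne'
  obtain ⟨α, β, γ, hne, hrel⟩ := D_rel (D_eq_zero hv hvv hu hx hq)
  have hγ : γ ≠ 0 := by
    rintro rfl
    rw [zero_smul, add_zero] at hrel
    by_cases hβ : β = 0
    · rw [hβ, zero_smul, add_zero, smul_eq_zero] at hrel
      rcases hrel with h | h
      · rcases hne with h' | h' | h'
        · exact h' h
        · exact h' hβ
        · exact h' rfl
      · exact hv h
    · apply huv (-(β⁻¹ * α))
      have h1 : β • u = -(α • v) := by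
        rw [eq_neg_iff_add_eq_zero, add_comm]; exact hrel
      calc u = β⁻¹ • (β • u) := by rw [smul_smul, inv_mul_cancel₀ hβ, one_smul]
        _ = _ := by rw [h1, smul_neg, smul_smul, neg_smul]
  refine ⟨-(γ⁻¹ * α), -(γ⁻¹ * β), ?_⟩
  have h1 : γ • x = -(α • v) + -(β • u) := by
    have : γ • x = (α • v + β • u + γ • x) - (α • v) - (β • u) := by abel
    rw [this, hrel]; abel
  calc x = γ⁻¹ • (γ • x) := by rw [smul_smul, inv_mul_cancel₀ hγ, one_smul]
    _ = _ := by rw [h1, smul_add, smul_neg, smul_neg, smul_smul, smul_smul, neg_smul, neg_smul]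

include hF in
/-- two isotropic vectors orthogonal to each other are proportional -/
theorem prop_of_isotropic {v w : Fin 3 → K} (hv : v ≠ 0) (hvv : hermForm 3 K q v v = 0)
    (hww : hermForm 3 K q w w = 0) (hw : hermForm 3 K q w v = 0) : ∃ c : K, w = c • v := by
  by_contra hcon
  rw [not_exists] at hcon
  have hvw : hermForm 3 K q v w = 0 := herm_eq_zero_swap hF hw
  have hperp : ∀ x, hermForm 3 K q x v = 0 → hermForm 3 K q x w = 0 := by
    intro x hx
    obtain ⟨a, b, rfl⟩ := exists_comb hF hv hvv hw hx hcon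
    rw [herm_add_left, herm_smul_left, herm_smul_left, hvw, hww]
    simp
  obtain ⟨y, hy⟩ := exists_herm_ne_zero hF hv
  have hy' : hermForm 3 K q y v ≠ 0 := fun h => hy (herm_eq_zero_swap hF h)
  set d := hermForm 3 K q y v with hd
  set e := hermForm 3 K q y w with he
  apply hcon ((e / d) ^ q)
  rw [← sub_eq_zero]
  by_contra hne
  obtain ⟨x, hx⟩ := exists_herm_ne_zero hF hne
  have hx' : hermForm 3 K q x (w - (e / d) ^ q • v) ≠ 0 := fun h => hx (herm_eq_zero_swap hF h)
  apply hx'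
  rw [herm_sub_right hF, herm_smul_right, pow_q_pow_q hF]
  have h1 : hermForm 3 K q (x - (hermForm 3 K q x v / d) • y) v = 0 := by
    rw [herm_sub_left, herm_smul_left, ← hd]
    field_simp
    ring
  have h2 := hperp _ h1
  rw [herm_sub_left, herm_smul_left, ← he] at h2
  rw [← h2]
  ring

omit [Fintype K] in
/-- `SU₃` preserves the form -/
theorem herm_map {g : SpecialLinearGroup (Fin 3) K} (hg : g ∈ SU 3 K q) (u v : Fin 3 → K) :
    hermForm 3 K q (g.1 *ᵥ u) (g.1 *ᵥ v) = hermForm 3 K q u v := hg u v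

theorem su_three_sub_mem {g : SpecialLinearGroup (Fin 3) K} (hg : g ∈ SU 3 K q) {v : Fin 3 → K}
    (h : g.1 *ᵥ v = v) (x : Fin 3 → K) : hermForm 3 K q ((g.1 - 1) *ᵥ x) v = 0 := by
  rw [Matrix.sub_mulVec, Matrix.one_mulVec, herm_sub_left, sub_eq_zero]
  conv_lhs => rw [← h]
  exact herm_map hg x v

include hF in
theorem su_three_sub_mem_span {g : SpecialLinearGroup (Fin 3) K} (hg : g ∈ SU 3 K q) {v : Fin 3 → K}
    (hv : v ≠ 0) (hvv : hermForm 3 K q v v = 0)
    (h : g.1 *ᵥ v = v) {u : Fin 3 → K} (hu : hermForm 3 K q u v = 0) :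
    ∃ c : K, (g.1 - 1) *ᵥ u = c • v := by
  have hq : q ≠ 0 := (q_pos hF).ne'
  obtain ⟨w, hw⟩ := exists_herm_ne_zero hF hv
  have hw' : hermForm 3 K q w v ≠ 0 := fun h => hw (herm_eq_zero_swap hF h)
  set n := (g.1 - 1) *ᵥ w with hn
  set m := (g.1 - 1) *ᵥ u with hm
  have hgw : g.1 *ᵥ w = w + n := by
    rw [hn, Matrix.sub_mulVec, Matrix.one_mulVec]; abel
  have hgu : g.1 *ᵥ u = u + m := by
    rw [hm, Matrix.sub_mulVec, Matrix.one_mulVec]; abel
  have hnv : hermForm 3 K q n v = 0 := su_three_sub_mem hg h w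
  have hmv : hermForm 3 K q m v = 0 := su_three_sub_mem hg h u
  have h1 := D_map g.1 v u w
  rw [g.2, one_mul, h, hgu, hgw, D_add, D_add', D_add'] at h1
  have h2 : D v u n = 0 := D_eq_zero hv hvv hu hnv hq
  have h3 : D v m n = 0 := D_eq_zero hv hvv hmv hnv hq
  have h4 : D v m w = 0 := by
    rw [h2, h3] at h1
    linear_combination h1
  obtain ⟨α, β, γ, hne, hrel⟩ := D_rel h4
  have h5 := congrArg (fun z => hermForm 3 K q z v) hrel
  simp only [herm_add_left, herm_smul_left, hvv, hmv, herm_zero_left, mul_zero, zero_add] at h5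
  have hγ : γ = 0 := (mul_eq_zero.1 h5).resolve_right hw'
  rw [hγ, zero_smul, add_zero] at hrel
  have hβ : β ≠ 0 := by
    rintro rfl
    rw [zero_smul, add_zero, smul_eq_zero] at hrel
    rcases hrel with h | h
    · rcases hne with h' | h' | h'
      · exact h' h
      · exact h' rfl
      · exact h' hγ
    · exact hv h
  refine ⟨-(β⁻¹ * α), ?_⟩
  have h6 : β • m = -(α • v) := by
    rw [eq_neg_iff_add_eq_zero, add_comm]; exact hrel
  calc m = β⁻¹ • (β • m) := by rw [smul_smul, inv_mul_cancel₀ hβ, one_smul]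
    _ = _ := by rw [h6, smul_neg, smul_smul, neg_smul]

include hF in
theorem su_three_nilp {g : SpecialLinearGroup (Fin 3) K} (hg : g ∈ SU 3 K q) {v : Fin 3 → K}
    (hv : v ≠ 0) (hvv : hermForm 3 K q v v = 0) (h : g.1 *ᵥ v = v) : (g.1 - 1) ^ 3 = 0 := by
  apply Matrix.ext_of_mulVec_single
  intro i
  rw [Matrix.zero_mulVec, pow_succ, pow_two, ← Matrix.mulVec_mulVec, ← Matrix.mulVec_mulVec]
  obtain ⟨c, hc⟩ := su_three_sub_mem_span hF hg hv hvv h (su_three_sub_mem hg h (Pi.single i 1))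
  rw [hc, Matrix.mulVec_smul, Matrix.sub_mulVec, h, Matrix.one_mulVec, sub_self, smul_zero]

include hF in
theorem isPGroup_vstab_three {p : ℕ} [hp : Fact p.Prime] [CharP K p] {v : Fin 3 → K} (hv : v ≠ 0)
    (hvv : hermForm 3 K q v v = 0) : IsPGroup p (vstab (SU 3 K q) v) := by
  rintro ⟨g, hg⟩
  obtain ⟨k, hk⟩ := pow_eq_one_of_nilp (p := p) (su_three_nilp hF g.2 hv hvv hg)
  exact ⟨k, Subtype.ext (Subtype.ext hk)⟩

include hF in
/-- an element fixing two independent isotropic vectors is trivial -/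
theorem su_three_eq_one {g : SpecialLinearGroup (Fin 3) K} (hg : g ∈ SU 3 K q) {v w : Fin 3 → K}
    (hv : v ≠ 0) (hw0 : w ≠ 0) (hvv : hermForm 3 K q v v = 0) (hww : hermForm 3 K q w w = 0)
    (h : g.1 *ᵥ v = v) (h' : g.1 *ᵥ w = w) (hvw : hermForm 3 K q v w ≠ 0) : g = 1 := by
  have hwv : hermForm 3 K q w v ≠ 0 := fun h => hvw (herm_eq_zero_swap hF h)
  have h1 : ∀ u, hermForm 3 K q u v = 0 → (g.1 - 1) *ᵥ u = 0 := by
    intro u hu
    obtain ⟨c, hc⟩ := su_three_sub_mem_span hF hg hv hvv h hu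
    have h2 := su_three_sub_mem hg h' u
    rw [hc, herm_smul_left] at h2
    rw [hc, (mul_eq_zero.1 h2).resolve_right hvw, zero_smul]
  have h2 : ∀ x, (g.1 - 1) *ᵥ x = 0 := by
    intro x
    have e : x = (x - (hermForm 3 K q x v / hermForm 3 K q w v) • w) +
        (hermForm 3 K q x v / hermForm 3 K q w v) • w := by abel
    rw [e, Matrix.mulVec_add, Matrix.mulVec_smul, Matrix.sub_mulVec _ _ w, h', Matrix.one_mulVec,
      sub_self, smul_zero, add_zero]
    apply h1
    rw [herm_sub_left, herm_smul_left]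
    field_simp
    ring
  apply Subtype.ext
  change g.1 = 1
  rw [← sub_eq_zero]
  apply Matrix.ext_of_mulVec_single
  intro i
  rw [Matrix.zero_mulVec]
  exact h2 _

/-- the vectors orthogonal to two given vectors -/
def perp (hF : Fintype.card K = q ^ 2) (a b : Fin 3 → K) : Submodule K (Fin 3 → K) where
  carrier := {x | hermForm 3 K q x a = 0 ∧ hermForm 3 K q x b = 0}
  add_mem' := by
    rintro x y ⟨h1, h2⟩ ⟨h3, h4⟩
    exact ⟨by rw [herm_add_left, h1, h3, add_zero], by rw [herm_add_left, h2, h4, add_zero]⟩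
  zero_mem' := ⟨herm_zero_left _, herm_zero_left _⟩
  smul_mem' := by
    rintro c x ⟨h1, h2⟩
    exact ⟨by rw [herm_smul_left, h1, mul_zero], by rw [herm_smul_left, h2, mul_zero]⟩

theorem perp_ne_bot (a b : Fin 3 → K) : perp hF a b ≠ ⊥ := by
  have h0 : (Matrix.of ![fun i => a i ^ q, fun i => b i ^ q, 0] : Matrix (Fin 3) (Fin 3) K).det = 0 :=
    Matrix.det_eq_zero_of_row_eq_zero 2 (fun j => rfl)
  obtain ⟨x, hx0, hx⟩ := Matrix.exists_mulVec_eq_zero_iff.2 h0
  intro h
  apply hx0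
  have : x ∈ perp hF a b := by
    constructor
    · have := congrFun hx 0
      rw [herm_def]
      simpa [Matrix.mulVec, dotProduct, Fin.sum_univ_three, mul_comm] using this
    · have := congrFun hx 1
      rw [herm_def]
      simpa [Matrix.mulVec, dotProduct, Fin.sum_univ_three, mul_comm] using this
  rw [h] at this
  exact this

theorem perp_inv {g : SpecialLinearGroup (Fin 3) K} (hg : g ∈ SU 3 K q) {a b : Fin 3 → K}
    (ha : g.1 *ᵥ a = a) (hb : g.1 *ᵥ b = b) : ∀ w ∈ perp hF a b, g.1 *ᵥ w ∈ perp hF a b := by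
  rintro w ⟨h1, h2⟩
  constructor
  · rw [← ha, herm_map hg]; exact h1
  · rw [← hb, herm_map hg]; exact h2

include hF in
/-- a nontrivial `p`-subgroup of `SU₃` fixes a nonzero isotropic vector -/
theorem exists_isotropic {p : ℕ} [hp : Fact p.Prime] [CharP K p] (R : Subgroup (SU 3 K q))
    (hR : IsPGroup p R) (hR0 : R ≠ ⊥) :
    ∃ v : Fin 3 → K, v ≠ 0 ∧ hermForm 3 K q v v = 0 ∧ R ≤ vstab (SU 3 K q) v := by
  have hR' : IsPGroup p (R.map (SU 3 K q).subtype) := hR.map _
  have hsub : ∀ g ∈ R.map (SU 3 K q).subtype, g ∈ SU 3 K q := by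
    rintro _ ⟨g, -, rfl⟩
    exact g.2
  have hz : ∀ (g : SpecialLinearGroup (Fin 3) K), g.1 *ᵥ (0 : Fin 3 → K) = 0 := fun g =>
    Matrix.mulVec_zero _
  obtain ⟨a, -, ha0, ha⟩ := exists_fixed_vec _ hR' (perp hF 0 0)
    (fun g hg => perp_inv hF (hsub g hg) (hz g) (hz g)) (perp_ne_bot hF 0 0)
  have fin : ∀ v : Fin 3 → K, v ≠ 0 → hermForm 3 K q v v = 0 →
      (∀ g ∈ R.map (SU 3 K q).subtype, g.1 *ᵥ v = v) →
      ∃ v : Fin 3 → K, v ≠ 0 ∧ hermForm 3 K q v v = 0 ∧ R ≤ vstab (SU 3 K q) v :=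
    fun v h1 h2 h3 => ⟨v, h1, h2, fun g hg => h3 g.1 ⟨g, hg, rfl⟩⟩
  by_cases haa : hermForm 3 K q a a = 0
  · exact fin a ha0 haa ha
  obtain ⟨b, ⟨hba, -⟩, hb0, hb⟩ := exists_fixed_vec _ hR' (perp hF a 0)
    (fun g hg => perp_inv hF (hsub g hg) (ha g hg) (hz g)) (perp_ne_bot hF a 0)
  by_cases hbb : hermForm 3 K q b b = 0
  · exact fin b hb0 hbb hb
  obtain ⟨c, ⟨hca, hcb⟩, hc0, hc⟩ := exists_fixed_vec _ hR' (perp hF a b)
    (fun g hg => perp_inv hF (hsub g hg) (ha g hg) (hb g hg)) (perp_ne_bot hF a b)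
  by_cases hcc : hermForm 3 K q c c = 0
  · exact fin c hc0 hcc hc
  exfalso
  have hq : q ≠ 0 := (q_pos hF).ne'
  -- an orthogonal basis
  have hD : D a b c ≠ 0 := by
    intro h0
    obtain ⟨α, β, γ, hne, hrel⟩ := D_rel h0
    have h1 := congrArg (fun z => hermForm 3 K q z a) hrel
    have h2 := congrArg (fun z => hermForm 3 K q z b) hrel
    have h3 := congrArg (fun z => hermForm 3 K q z c) hrel
    have hab : hermForm 3 K q a b = 0 := herm_eq_zero_swap hF hba
    have hac : hermForm 3 K q a c = 0 := herm_eq_zero_swap hF hca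
    have hbc : hermForm 3 K q b c = 0 := herm_eq_zero_swap hF hcb
    simp only [herm_add_left, herm_smul_left, hba, hca, hcb, hab, hac, hbc, herm_zero_left,
      mul_zero, zero_add, add_zero] at h1 h2 h3
    rcases hne with h | h | h
    · exact h ((mul_eq_zero.1 h1).resolve_right haa)
    · exact h ((mul_eq_zero.1 h2).resolve_right hbb)
    · exact h ((mul_eq_zero.1 h3).resolve_right hcc)
  apply hR0
  rw [eq_bot_iff]
  intro g hg
  rw [Subgroup.mem_bot]
  apply Subtype.ext
  apply Subtype.ext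
  change g.1.1 = 1
  have hg' : g.1 ∈ R.map (SU 3 K q).subtype := ⟨g, hg, rfl⟩
  rw [← sub_eq_zero]
  apply Matrix.ext_of_mulVec_single
  intro i
  rw [Matrix.zero_mulVec]
  by_contra hne
  apply hD
  have h1 := su_three_sub_mem g.2 (ha _ hg') (Pi.single i 1)
  have h2 := su_three_sub_mem g.2 (hb _ hg') (Pi.single i 1)
  have h3 := su_three_sub_mem g.2 (hc _ hg') (Pi.single i 1)
  exact D_eq_zero hne (herm_eq_zero_swap hF h1) (herm_eq_zero_swap hF h2) (herm_eq_zero_swap hF h3) hq

include hF in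
/-- the Sylow `p`-subgroups of `SU₃` intersect pairwise trivially -/
theorem su_three_ti {p : ℕ} [hp : Fact p.Prime] [CharP K p] (P Q : Sylow p (SU 3 K q))
    (h : (P : Subgroup (SU 3 K q)) ⊓ (Q : Subgroup (SU 3 K q)) ≠ ⊥) : P = Q := by
  refine QdTI.ti_of_family (ι := {v : Fin 3 → K // v ≠ 0 ∧ hermForm 3 K q v v = 0})
    (fun v => vstab (SU 3 K q) v.1) (fun v => isPGroup_vstab_three hF v.2.1 v.2.2) ?_ ?_ P Q h
  · intro R hR hR0
    obtain ⟨v, h1, h2, h3⟩ := exists_isotropic hF R hR hR0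
    exact ⟨⟨v, h1, h2⟩, h3⟩
  · rintro ⟨v, hv, hvv⟩ ⟨w, hw, hww⟩ g hg hg' hg1
    by_cases hvw : hermForm 3 K q w v = 0
    · obtain ⟨c, rfl⟩ := prop_of_isotropic hF hv hvv hww hvw
      have hc : c ≠ 0 := by
        rintro rfl
        exact hw (zero_smul _ _)
      exact (vstab_smul hc).symm
    · exact absurd (Subtype.ext (su_three_eq_one hF g.2 hw hv hww hvv hg' hg hvw)) hg1

end SUThree

end Cfsg.Agent.H96.TISylow
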