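import Cfsg.Agent.ChevalleyStructure.UnipProd
import Cfsg.Agent.ChevalleyStructure.RootVec
import Cfsg.Agent.S1031
import Cfsg.Agent.S1032
import Cfsg.Prelude.Def_ChevStructure
import Cfsg.Agent.ChevalleyStructure.RootComb
import Cfsg.Agent.ChevalleyStructure.RootWord
set_option linter.all false

-- part: H96/WeakClosed
section
/-!
helper96: subgroups `X` of the unipotent group `U` of a Chevalley group normalised by the Borel subgroup.

For `k : ℕ` let `U_k = unipGE D F k` be the subgroup generated by the positive root groups of index `≥ k`.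
`Lead X b`: some element of `X` lies in `x_b(t) U_{b+1}` with `t ≠ 0`.
The main lemma `root_mem_of_lead`: if `Lead X b` and each root `c > b` is either separated from `b` by a torus element
normalising `X`, or `Lead X c` holds, then `x_b(t) ∈ X` for all `t`.
-/

set_option autoImplicit false

namespace Cfsg.Agent.H96.WeakClosed

open Cfsg.Lie Cfsg.Agent.ChevalleyStructure.Elts
open Cfsg.Agent.ChevalleyStructure.UnipProd

universe u

variable {F : Type u} [Field F] {D : ChevalleyDatum}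

/-! ### additive subgroups of the field stable under squares -/

/-- An additive subgroup stable under multiplication by squares is stable under all scalars. -/
theorem smul_mem_of_sq [Finite F] (A : AddSubgroup F) (hA : ∀ a ∈ A, ∀ c : F, c ^ 2 * a ∈ A) {a : F} (ha : a ∈ A)
    (c : F) : c * a ∈ A := by
  by_cases h2 : (2 : F) = 0
  · have : CharP F 2 := CharTwo.of_one_ne_zero_of_two_eq_zero one_ne_zero h2
    obtain ⟨d, hd⟩ := FiniteField.isSquare_of_char_two (F := F) (ringChar.eq F 2) c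
    rw [hd, ← sq]
    exact hA a ha d
  · have h1 : ∀ d : F, (2 * d) * a ∈ A := by
      intro d
      have e : (2 * d) * a = (d + 1) ^ 2 * a - d ^ 2 * a - 1 ^ 2 * a := by ring
      rw [e]
      exact A.sub_mem (A.sub_mem (hA a ha _) (hA a ha _)) (hA a ha _)
    have h3 := h1 (c / 2)
    rwa [mul_div_cancel₀ c h2] at h3

/-! ### conjugation by the torus -/

theorem hG_conj (hD : InList D) {i s : ℕ} (hi : i < D.rank) (hs : s < D.nroots) {c : F} (hc : c ≠ 0) (t : F) :
    hG hD (D.simple i) c * xG hD s t * (hG hD (D.simple i) c)⁻¹ = xG hD s (c ^ (D.cartan i s) * t) := by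
  have h1 := Cfsg.Agent.S1032.result (F := F) D hD i s hi hs c hc t
  have h2 : hG hD (D.simple i) c * xG hD s t = xG hD s (c ^ (D.cartan i s) * t) * hG hD (D.simple i) c :=
    Units.ext (by simpa using h1)
  rw [h2, mul_inv_cancel_right]

/-- `g` acts on `X_s` by multiplication with a non-zero scalar, for all roots `s`. -/
def Tor (hD : InList D) (g : GL D.Idx F) (χ : ℕ → F) : Prop :=
  ∀ s < D.nroots, χ s ≠ 0 ∧ ∀ t : F, g * xG hD s t * g⁻¹ = xG hD s (χ s * t)

theorem tor_hG (hD : InList D) {i : ℕ} (hi : i < D.rank) {c : F} (hc : c ≠ 0) :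
    Tor hD (hG hD (D.simple i) c) (fun s => c ^ (D.cartan i s)) :=
  fun _ hs => ⟨zpow_ne_zero _ hc, hG_conj hD hi hs hc⟩

theorem Tor.mul {hD : InList D} {g g' : GL D.Idx F} {χ χ' : ℕ → F} (h : Tor hD g χ) (h' : Tor hD g' χ') :
    Tor hD (g * g') (fun s => χ s * χ' s) := by
  intro s hs
  refine ⟨mul_ne_zero (h s hs).1 (h' s hs).1, fun t => ?_⟩
  have e : g * g' * xG hD s t * (g * g')⁻¹ = g * (g' * xG hD s t * g'⁻¹) * g⁻¹ := by group
  rw [e, (h' s hs).2, (h s hs).2, mul_assoc]

theorem Tor.conj_mem {hD : InList D} {g : GL D.Idx F} {χ : ℕ → F} (h : Tor hD g χ) {k : ℕ} {v : GL D.Idx F}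
    (hv : v ∈ unipGE D F k) : g * v * g⁻¹ ∈ unipGE D F k := by
  have hle : unipGE D F k ≤ (unipGE D F k).comap (MulAut.conj g).toMonoidHom := by
    refine (unipGE_le_iff hD k _).2 fun s hs hk u => ?_
    show g * xG hD s u * g⁻¹ ∈ unipGE D F k
    rw [(h s hs.1).2]
    exact xG_mem_unipGE hD hs hk _
  exact hle hv

/-! ### leading terms -/

/-- `X` is normalised by `g`. -/
def Nrm (X : Subgroup (GL D.Idx F)) (g : GL D.Idx F) : Prop := ∀ x ∈ X, g * x * g⁻¹ ∈ X

theorem Nrm.mul {X : Subgroup (GL D.Idx F)} {g g' : GL D.Idx F} (h : Nrm X g) (h' : Nrm X g') : Nrm X (g * g') := by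
  intro x hx
  have e : g * g' * x * (g * g')⁻¹ = g * (g' * x * g'⁻¹) * g⁻¹ := by group
  rw [e]
  exact h _ (h' _ hx)

/-- Some element of `X` is `x_b(t) v` with `t ≠ 0`, `v ∈ U_{b+1}`. -/
def Lead (hD : InList D) (X : Subgroup (GL D.Idx F)) (b : ℕ) : Prop :=
  ∃ t : F, t ≠ 0 ∧ ∃ v ∈ unipGE D F (b + 1), xG hD b t * v ∈ X

/-- The set of leading coefficients. -/
def leadSub (hD : InList D) (X : Subgroup (GL D.Idx F)) {b : ℕ} (hb : D.IsPosRoot b) : AddSubgroup F where
  carrier := {t | ∃ v ∈ unipGE D F (b + 1), xG hD b t * v ∈ X}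
  zero_mem' := ⟨1, one_mem _, by rw [xG_zero, mul_one]; exact one_mem _⟩
  add_mem' := by
    rintro t t' ⟨v, hv, h⟩ ⟨v', hv', h'⟩
    refine ⟨(xG hD b (-t') * v * xG hD b t') * v', mul_mem (conj_mem hD hb t' hv) hv', ?_⟩
    have e : xG hD b (t + t') * ((xG hD b (-t') * v * xG hD b t') * v') = (xG hD b t * v) * (xG hD b t' * v') := by
      rw [← xG_add, ← xG_inv]
      group
    rw [e]
    exact mul_mem h h'
  neg_mem' := by
    rintro t ⟨v, hv, h⟩
    refine ⟨xG hD b (-(-t)) * v⁻¹ * xG hD b (-t), conj_mem hD hb (-t) (inv_mem hv), ?_⟩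
    have e : xG hD b (-t) * (xG hD b (-(-t)) * v⁻¹ * xG hD b (-t)) = (xG hD b t * v)⁻¹ := by
      rw [neg_neg, ← xG_inv]
      group
    rw [e]
    exact inv_mem h

theorem mem_leadSub {hD : InList D} {X : Subgroup (GL D.Idx F)} {b : ℕ} {hb : D.IsPosRoot b} {t : F} :
    t ∈ leadSub hD X hb ↔ ∃ v ∈ unipGE D F (b + 1), xG hD b t * v ∈ X := Iff.rfl

theorem leadSub_tor {hD : InList D} {X : Subgroup (GL D.Idx F)} {b : ℕ} {hb : D.IsPosRoot b} {g : GL D.Idx F}
    {χ : ℕ → F} (hg : Tor hD g χ) (hn : Nrm X g) {t : F} (ht : t ∈ leadSub hD X hb) :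
    χ b * t ∈ leadSub hD X hb := by
  obtain ⟨v, hv, h⟩ := ht
  refine ⟨g * v * g⁻¹, hg.conj_mem hv, ?_⟩
  have e : xG hD b (χ b * t) * (g * v * g⁻¹) = g * (xG hD b t * v) * g⁻¹ := by
    rw [← (hg b hb.1).2]
    group
  rw [e]
  exact hn _ h

/-- `X` is a subgroup of `U` normalised by the torus. -/
structure TStable (hD : InList D) (X : Subgroup (GL D.Idx F)) : Prop where
  torus : ∀ i < D.rank, ∀ c : F, c ≠ 0 → Nrm X (hG hD (D.simple i) c)

theorem full_of_lead [Finite F] {hD : InList D} {X : Subgroup (GL D.Idx F)} (hX : TStable hD X) {b : ℕ}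
    (hb : D.IsPosRoot b)
    (hact : ∃ i < D.rank, D.cartan i b = 1 ∨ D.cartan i b = -1 ∨ D.cartan i b = 2 ∨ D.cartan i b = -2)
    (hl : Lead hD X b) (t : F) : ∃ v ∈ unipGE D F (b + 1), xG hD b t * v ∈ X := by
  obtain ⟨t₀, ht₀, h0⟩ := hl
  obtain ⟨i, hi, hA⟩ := hact
  have hsq : ∀ a ∈ leadSub hD X hb, ∀ c : F, c ^ 2 * a ∈ leadSub hD X hb := by
    intro a ha c
    by_cases hc : c = 0
    · rw [hc, zero_pow two_ne_zero, zero_mul]; exact zero_mem _
    have key : ∀ d : F, d ≠ 0 → d ^ (D.cartan i b) * a ∈ leadSub hD X hb := fun d hd =>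
      leadSub_tor (tor_hG hD hi hd) (hX.torus i hi d hd) ha
    have hc2 : c ^ 2 ≠ 0 := pow_ne_zero 2 hc
    rcases hA with h | h | h | h
    · have := key (c ^ 2) hc2
      rwa [h, zpow_one] at this
    · have := key (c ^ 2)⁻¹ (inv_ne_zero hc2)
      rwa [h, zpow_neg, zpow_one, inv_inv] at this
    · have := key c hc
      rw [h] at this
      exact_mod_cast this
    · have := key c⁻¹ (inv_ne_zero hc)
      rw [h, zpow_neg, inv_zpow, inv_inv] at this
      exact_mod_cast this
  have h1 := smul_mem_of_sq (leadSub hD X hb) hsq (a := t₀) h0 (t / t₀)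
  rw [div_mul_cancel₀ t ht₀] at h1
  exact h1

/-- `b` and `c` are separated by a torus element normalising `X`. -/
def Sep (hD : InList D) (X : Subgroup (GL D.Idx F)) (b c : ℕ) : Prop :=
  ∃ (g : GL D.Idx F) (χ : ℕ → F), Tor hD g χ ∧ Nrm X g ∧ χ b = 1 ∧ χ c ≠ 1

theorem root_mem_of_lead {hD : InList D} {X : Subgroup (GL D.Idx F)}
    (hfull : ∀ b, D.IsPosRoot b → Lead hD X b → ∀ t : F, ∃ v ∈ unipGE D F (b + 1), xG hD b t * v ∈ X)
    {b : ℕ} (hb : D.IsPosRoot b) (hpair : ∀ c, D.IsPosRoot c → b < c → Sep hD X b c ∨ Lead hD X c)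
    (hl : Lead hD X b) (t : F) : xG hD b t ∈ X := by
  have main : ∀ n : ℕ, ∀ t : F, ∃ v ∈ unipGE D F (b + 1 + n), xG hD b t * v ∈ X := by
    intro n
    induction n with
    | zero => exact fun t => hfull b hb hl t
    | succ n ih =>
      intro t
      obtain ⟨v, hv, hX⟩ := ih t
      by_cases hc : D.IsPosRoot (b + 1 + n)
      · obtain ⟨t', w, hw, rfl⟩ := exists_of_mem_unipGE hD hc hv
        by_cases ht' : t' = 0
        · refine ⟨w, hw, ?_⟩
          rwa [ht', xG_zero, one_mul] at hX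
        have hlead : Lead hD X (b + 1 + n) := by
          rcases hpair _ hc (by omega) with ⟨g, χ, hg, hn, h1, h2⟩ | h
          · have h3 := hn _ hX
            have e1 : g * (xG hD b t * (xG hD (b + 1 + n) t' * w)) * g⁻¹ =
                xG hD b t * (xG hD (b + 1 + n) (χ (b + 1 + n) * t') * (g * w * g⁻¹)) := by
              have e2 := (hg b hb.1).2 t
              rw [h1, one_mul] at e2
              have e3 := (hg _ hc.1).2 t'
              rw [← e3]
              nth_rewrite 2 [← e2]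
              group
            rw [e1] at h3
            have h4 := mul_mem (inv_mem hX) h3
            have hw' : g * w * g⁻¹ ∈ unipGE D F (b + 1 + n + 1) := hg.conj_mem hw
            have e4 : (xG hD b t * (xG hD (b + 1 + n) t' * w))⁻¹ *
                (xG hD b t * (xG hD (b + 1 + n) (χ (b + 1 + n) * t') * (g * w * g⁻¹))) =
                xG hD (b + 1 + n) (χ (b + 1 + n) * t' - t') *
                  ((xG hD (b + 1 + n) (-(χ (b + 1 + n) * t' - t')) * w⁻¹ *
                    xG hD (b + 1 + n) (χ (b + 1 + n) * t' - t')) * (g * w * g⁻¹)) := by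
              have e5 : xG hD (b + 1 + n) (χ (b + 1 + n) * t' - t') =
                  (xG hD (b + 1 + n) t')⁻¹ * xG hD (b + 1 + n) (χ (b + 1 + n) * t') := by
                rw [xG_inv, xG_add]; congr 1; ring
              rw [← xG_inv, e5]
              group
            rw [e4] at h4
            refine ⟨χ (b + 1 + n) * t' - t', ?_, _, mul_mem (conj_mem hD hc _ (inv_mem hw)) hw', h4⟩
            intro h0
            apply h2
            have : (χ (b + 1 + n) - 1) * t' = 0 := by rw [← h0]; ring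
            rcases mul_eq_zero.1 this with h | h
            · exact sub_eq_zero.1 h
            · exact absurd h ht'
          · exact h
        obtain ⟨z, hz, hzX⟩ := hfull _ hc hlead (-t')
        refine ⟨(xG hD (b + 1 + n) (-(-t')) * w * xG hD (b + 1 + n) (-t')) * z,
          mul_mem (conj_mem hD hc _ hw) hz, ?_⟩
        have e : xG hD b t * ((xG hD (b + 1 + n) (-(-t')) * w * xG hD (b + 1 + n) (-t')) * z) =
            (xG hD b t * (xG hD (b + 1 + n) t' * w)) * (xG hD (b + 1 + n) (-t') * z) := by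
          rw [neg_neg]
          group
        rw [e]
        exact mul_mem hX hzX
      · refine ⟨v, ?_, hX⟩
        have hle : unipGE D F (b + 1 + n) ≤ unipGE D F (b + 1 + (n + 1)) := by
          refine (unipGE_le_iff hD _ _).2 fun r hr hk u => ?_
          refine xG_mem_unipGE hD hr ?_ u
          rcases Nat.eq_or_lt_of_le hk with h | h
          · rw [← h] at hr; exact absurd hr hc
          · omega
        exact hle hv
  obtain ⟨v, hv, h⟩ := main D.nroots t
  rw [unipGE_eq_bot hD F (by omega), Subgroup.mem_bot] at hv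
  rwa [hv, mul_one] at h

/-- `X` is generated by the root groups it contains. -/
theorem le_of_roots {hD : InList D} {X : Subgroup (GL D.Idx F)} (hXU : X ≤ D.posUnipotent F)
    (hroot : ∀ b, D.IsPosRoot b → Lead hD X b → ∀ t : F, xG hD b t ∈ X) {K : Subgroup (GL D.Idx F)}
    (hK : ∀ b, D.IsPosRoot b → (∀ t : F, xG hD b t ∈ X) → ∀ t : F, xG hD b t ∈ K) : X ≤ K := by
  have main : ∀ n k : ℕ, D.nroots ≤ k + n → ∀ x ∈ X, x ∈ unipGE D F k → x ∈ K := by
    intro n
    induction n with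
    | zero =>
      intro k hk x _ hx
      rw [unipGE_eq_bot hD F (by omega), Subgroup.mem_bot] at hx
      rw [hx]; exact one_mem _
    | succ n ih =>
      intro k hk x hxX hx
      by_cases hc : D.IsPosRoot k
      · obtain ⟨t, v, hv, rfl⟩ := exists_of_mem_unipGE hD hc hx
        by_cases ht : t = 0
        · rw [ht, xG_zero, one_mul] at hxX ⊢
          exact ih (k + 1) (by omega) v hxX hv
        · have hX := hroot k hc ⟨t, ht, v, hv, hxX⟩
          refine mul_mem (hK k hc hX t) (ih (k + 1) (by omega) v ?_ hv)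
          have := mul_mem (inv_mem (hX t)) hxX
          rwa [inv_mul_cancel_left] at this
      · refine ih (k + 1) (by omega) x hxX ?_
        have hle : unipGE D F k ≤ unipGE D F (k + 1) := by
          refine (unipGE_le_iff hD _ _).2 fun r hr hk' u => ?_
          refine xG_mem_unipGE hD hr ?_ u
          rcases Nat.eq_or_lt_of_le hk' with h | h
          · rw [← h] at hr; exact absurd hr hc
          · omega
        exact hle hx
  intro x hx
  refine main D.nroots 0 (by omega) x hx ?_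
  rw [unipGE_eq_posUnipotent hD F (Nat.zero_le _)]
  exact hXU hx

/-- All roots with non-zero coefficient in an increasing word lying in `X` have their root group in `X`. -/
theorem word_roots {hD : InList D} {X : Subgroup (GL D.Idx F)}
    (hroot : ∀ b, D.IsPosRoot b → Lead hD X b → ∀ t : F, xG hD b t ∈ X) :
    ∀ w : List (ℕ × F), (∀ p ∈ w, D.IsPosRoot p.1) → (w.map Prod.fst).Pairwise (· < ·) → wordG hD w ∈ X →
      ∀ p ∈ w, p.2 ≠ 0 → ∀ t : F, xG hD p.1 t ∈ X := by
  intro w
  induction w with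
  | nil => intro _ _ _ p hp; simp at hp
  | cons q w ih =>
    intro hpos hinc hw p hp hp0 t
    rw [List.map_cons, List.pairwise_cons] at hinc
    rw [wordG_cons] at hw
    have hv : wordG hD w ∈ unipGE D F (q.1 + 1) := by
      refine mem_of_xG_mem hD fun p' hp' => ?_
      exact xG_mem_unipGE hD (hpos p' (List.mem_cons_of_mem _ hp')) (hinc.1 _ (List.mem_map_of_mem hp')) _
    by_cases hq : q.2 = 0
    · rw [hq, xG_zero, one_mul] at hw
      rcases List.mem_cons.1 hp with rfl | hp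
      · exact absurd hq hp0
      · exact ih (fun p' hp' => hpos p' (List.mem_cons_of_mem _ hp')) hinc.2 hw p hp hp0 t
    · have hX := hroot q.1 (hpos q List.mem_cons_self) ⟨q.2, hq, _, hv, hw⟩
      rcases List.mem_cons.1 hp with rfl | hp
      · exact hX t
      · refine ih (fun p' hp' => hpos p' (List.mem_cons_of_mem _ hp')) hinc.2 ?_ p hp hp0 t
        have := mul_mem (inv_mem (hX q.2)) hw
        rwa [inv_mul_cancel_left] at this

end Cfsg.Agent.H96.WeakClosed
end

-- part: H96/WCTab2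
section
/-!
helper96: table checks for the theorem on weakly closed unipotent subgroups (S2244).
A positive root `a` with positive Cartan integer at the fundamental root `p_i` occurs with coefficient `±1` in the
commutator formula for `p_i` and the bottom of the `p_i`-string through `a`.
-/

set_option autoImplicit false

namespace Cfsg.Agent.H96.WCTab

open Cfsg.Lie Cfsg.Agent.ChevalleyStructure Cfsg.Agent.ChevalleyStructure.RootVecTab

/-- The list is strictly increasing. -/
def incB : List ℕ → Bool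
  | [] => true
  | a :: l => (match l with
    | [] => true
    | b :: _ => Nat.blt a b) && incB l

def strAt (D : ChevalleyDatum) (lo i a : ℕ) (q : ℕ) : Bool :=
  Nat.ble lo q && !(Nat.beq q (D.simple i)) && incB ((D.commTerms (D.simple i) q).map Prod.fst) &&
    (D.commTerms (D.simple i) q).any (fun c => Nat.beq c.1 a && (decide (c.2.1 = 1) || decide (c.2.1 = -1)))

def str (D : ChevalleyDatum) (lo i a : ℕ) : Bool :=
  match (D.chainEntry (D.neg (D.simple i)) a).getLast? with
  | none => false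
  | some q => strAt D lo i a q.1

def chkStr (D : ChevalleyDatum) (lo n : ℕ) : Bool :=
  allLT (fun i => allLT (fun a' => Nat.beq (Nat.add lo a') (D.simple i) ||
    (Nat.ble (cart D i (Nat.add lo a')) 8 || str D lo i (Nat.add lo a'))) n) D.rank

set_option maxRecDepth 100000 in
theorem chkStr_B2 : chkStr chevB2 4 4 = true := by decide +kernel
set_option maxRecDepth 100000 in
theorem chkStr_G2 : chkStr chevG2 6 6 = true := by decide +kernel
set_option maxRecDepth 100000 in
theorem chkStr_D4 : chkStr chevD4 12 12 = true := by decide +kernel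
set_option maxRecDepth 100000 in
theorem chkStr_F4 : chkStr chevF4 24 24 = true := by decide +kernel
set_option maxRecDepth 100000 in
theorem chkStr_E6 : chkStr chevE6 36 36 = true := by decide +kernel
set_option maxRecDepth 100000 in
theorem chkStr_E7 : chkStr chevE7 63 63 = true := by decide +kernel
set_option maxRecDepth 100000 in
theorem chkStr_E8 : chkStr chevE8 120 120 = true := by decide +kernel

theorem pairwise_of_incB : ∀ l : List ℕ, incB l = true → l.Pairwise (· < ·)
  | [] => fun _ => List.Pairwise.nil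
  | [a] => fun _ => List.pairwise_singleton _ a
  | a :: b :: l => fun h => by
    have h' : (Nat.blt a b && incB (b :: l)) = true := h
    rw [Bool.and_eq_true] at h'
    have ih := pairwise_of_incB (b :: l) h'.2
    have hab : a < b := by simpa using h'.1
    rw [List.pairwise_cons]
    refine ⟨fun c hc => ?_, ih⟩
    rcases List.mem_cons.1 hc with rfl | hc
    · exact hab
    · exact hab.trans ((List.pairwise_cons.1 ih).1 c hc)

theorem str_sound {D : ChevalleyDatum} {lo n : ℕ} (h : chkStr D lo n = true) {i : ℕ} (hi : i < D.rank) {a : ℕ}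
    (ha : lo ≤ a) (ha' : a < lo + n) (hne : a ≠ D.simple i) (hc : 8 < cart D i a) :
    ∃ s, lo ≤ s ∧ s ≠ D.simple i ∧ ((D.commTerms (D.simple i) s).map Prod.fst).Pairwise (· < ·) ∧
      ∃ c ∈ D.commTerms (D.simple i) s, c.1 = a ∧ (c.2.1 = 1 ∨ c.2.1 = -1) := by
  have h1 := (RootVec.allLT_iff _ _).1 ((RootVec.allLT_iff _ _).1 h i hi) (a - lo) (by omega)
  have ea : Nat.add lo (a - lo) = a := by show lo + (a - lo) = a; omega
  simp only [ea, Bool.or_eq_true] at h1
  rcases h1 with h1 | h1 | h1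
  · exact absurd (RootVec.beq_iff.1 h1) hne
  · have := RootVec.ble_iff.1 h1; omega
  · have h2 : (match (D.chainEntry (D.neg (D.simple i)) a).getLast? with
      | none => false
      | some q => strAt D lo i a q.1) = true := h1
    split at h2
    · simp at h2
    · rename_i q _
      have h3 : (Nat.ble lo q.1 && !(Nat.beq q.1 (D.simple i)) && incB ((D.commTerms (D.simple i) q.1).map Prod.fst) &&
        (D.commTerms (D.simple i) q.1).any (fun c => Nat.beq c.1 a && (decide (c.2.1 = 1) || decide (c.2.1 = -1)))) =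
          true := h2
      simp only [Bool.and_eq_true, List.any_eq_true, Bool.or_eq_true, decide_eq_true_eq, Bool.not_eq_true'] at h3
      obtain ⟨⟨⟨h4, h5⟩, h6⟩, c, hc, h7, h8⟩ := h3
      refine ⟨q.1, RootVec.ble_iff.1 h4, ?_, pairwise_of_incB _ h6, c, hc, RootVec.beq_iff.1 h7, h8⟩
      intro e
      rw [e] at h5
      have : Nat.beq (D.simple i) (D.simple i) = true := RootVec.beq_iff.2 rfl
      rw [this] at h5
      exact absurd h5 (by simp)

end Cfsg.Agent.H96.WCTab
end

-- part: H96/WeakClosedFin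
section
/-!
helper96: a weakly closed subgroup of `U` that is the product of the root groups it contains (in the strong sense
`hroot`) is the unipotent radical of a standard parabolic subgroup.
-/

set_option autoImplicit false

namespace Cfsg.Agent.H96.WeakClosed

open Cfsg.Lie Cfsg.Agent.ChevalleyStructure.Elts Cfsg.Agent.ChevalleyStructure
open Cfsg.Agent.ChevalleyStructure.UnipProd

universe u

variable {F : Type u} [Field F] {D : ChevalleyDatum}

theorem chkStr_mem (hD : InList D) : WCTab.chkStr D (D.nroots / 2) (D.nroots / 2) = true := by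
  simp only [InList, List.mem_cons, List.not_mem_nil, or_false] at hD
  rcases hD with rfl | rfl | rfl | rfl | rfl | rfl | rfl
  exacts [WCTab.chkStr_G2, WCTab.chkStr_B2, WCTab.chkStr_D4, WCTab.chkStr_F4, WCTab.chkStr_E6, WCTab.chkStr_E7,
    WCTab.chkStr_E8]

theorem string_fact (hD : InList D) {i : ℕ} (hi : i < D.rank) {a : ℕ} (ha : D.IsPosRoot a) (hne : a ≠ D.simple i)
    (hc : 0 < D.cartan i a) :
    ∃ s, D.IsPosRoot s ∧ s ≠ D.simple i ∧ ((D.commTerms (D.simple i) s).map Prod.fst).Pairwise (· < ·) ∧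
      ∃ c ∈ D.commTerms (D.simple i) s, c.1 = a ∧ (c.2.1 = 1 ∨ c.2.1 = -1) := by
  have h := RootVecTab.checked_of_mem hD
  have hpos := (UnipOrd.isPosRoot_iff hD a).1 ha
  have hev := UnipOrd.nroots_even hD
  rw [RootVec.cartan_eq_cart h hi hpos.2] at hc
  obtain ⟨s, hs, hsi, hinc, c, hc', hca, hC⟩ := WCTab.str_sound (chkStr_mem hD) hi hpos.1 (by omega) hne (by omega)
  refine ⟨s, ?_, hsi, hinc, c, hc', hca, hC⟩
  obtain ⟨u, C, x, y⟩ := c
  have := (RootVec.commTerms_rt h hc').2.2.1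
  exact (UnipOrd.isPosRoot_iff hD s).2 ⟨hs, this⟩

theorem inRootSub_reflect (G : RootCombGood.Good D) {J : Set ℕ} {i r : ℕ} (hi : i < D.rank) (hiJ : i ∈ J)
    (hr : D.InRootSub J r) : D.InRootSub J (D.reflectRoot i r) := by
  refine ⟨G.reflect_lt hi hr.1, fun j hj hjJ => ?_⟩
  have h1 := G.co_reflect hi hr.1 hj
  have h2 : RootCombGood.co D r j = 0 := hr.2 j hj hjJ
  have h3 : j ≠ i := by rintro rfl; exact hjJ hiJ
  rw [h2, if_neg h3, sub_zero] at h1
  exact h1

theorem inRootSub_simple (G : RootCombGood.Good D) {J : Set ℕ} {i : ℕ} (hi : i < D.rank) (hiJ : i ∈ J) :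
    D.InRootSub J (D.simple i) := by
  refine ⟨G.simple_lt hi, fun j hj hjJ => ?_⟩
  have h1 := G.co_simple hi hj
  rw [if_neg (by rintro rfl; exact hjJ hiJ)] at h1
  exact h1

theorem exists_J {hD : InList D} {X : Subgroup (GL D.Idx F)} (hXU : X ≤ D.posUnipotent F)
    (hwc : ∀ g ∈ D.group F, X.map (MulAut.conj g).toMonoidHom ≤ D.posUnipotent F →
      X.map (MulAut.conj g).toMonoidHom = X)
    (hroot : ∀ b, D.IsPosRoot b → Lead hD X b → ∀ t : F, xG hD b t ∈ X) :
    ∃ J : Set ℕ, (∀ j ∈ J, j < D.rank) ∧ X = D.unipotentRadical F J := by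
  have G := RootComb.good_of_mem hD
  have h := RootVecTab.checked_of_mem hD
  -- the unipotent group normalises `X`
  have hU : ∀ r, D.IsPosRoot r → ∀ t : F, Nrm X (xG hD r t) := by
    intro r hr t x hx
    have h1 := hwc (xG hD r t) (xG_mem_group hD r t) (by
      rintro _ ⟨y, hy, rfl⟩
      show xG hD r t * y * (xG hD r t)⁻¹ ∈ D.posUnipotent F
      exact mul_mem (mul_mem (xG_mem_posUnipotent hD hr t) (hXU hy)) (inv_mem (xG_mem_posUnipotent hD hr t)))
    rw [← h1]
    exact ⟨x, hx, rfl⟩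
  set J : Set ℕ := {i | i < D.rank ∧ ¬ ∀ t : F, xG hD (D.simple i) t ∈ X} with hJ
  have hN : ∀ i ∈ J, ∀ b, D.IsPosRoot b → (∀ t : F, xG hD b t ∈ X) → ∀ t : F, xG hD (D.reflectRoot i b) t ∈ X := by
    intro i hiJ b hb hbX t
    have hi : i < D.rank := hiJ.1
    have conj : ∀ c, D.IsPosRoot c → ∃ η : F, η ≠ 0 ∧ ∀ t : F,
        nG hD (D.simple i) 1 * xG hD c t * (nG hD (D.simple i) 1)⁻¹ = xG hD (D.reflectRoot i c) (η * t) := by
      intro c hc
      obtain ⟨η, hη, h1⟩ := Cfsg.Agent.S1031.result (F := F) D hD i c hi hc.1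
      refine ⟨η, ?_, fun t => ?_⟩
      · rcases hη with rfl | rfl <;> simp
      · have h2 : nG hD (D.simple i) 1 * xG hD c t = xG hD (D.reflectRoot i c) (η * t) * nG hD (D.simple i) 1 :=
          Units.ext (by simpa using h1 t)
        rw [h2, mul_inv_cancel_right]
    have h1 := hwc (nG hD (D.simple i) 1) (nG_mem_group hD _ _) (by
      rw [Subgroup.map_le_iff_le_comap]
      refine le_of_roots hXU hroot fun c hc hcX t => ?_
      show nG hD (D.simple i) 1 * xG hD c t * (nG hD (D.simple i) 1)⁻¹ ∈ D.posUnipotent F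
      obtain ⟨η, _, hη⟩ := conj c hc
      rw [hη]
      refine xG_mem_posUnipotent hD (G.reflect_pos hi hc ?_) _
      rintro rfl
      exact hiJ.2 hcX)
    obtain ⟨η, h0, hη⟩ := conj b hb
    rw [← h1]
    refine ⟨xG hD b (η⁻¹ * t), hbX _, ?_⟩
    show nG hD (D.simple i) 1 * xG hD b (η⁻¹ * t) * (nG hD (D.simple i) 1)⁻¹ = _
    rw [hη, mul_inv_cancel_left₀ h0]
  have hC2 : ∀ r, D.IsPosRoot r → ¬ D.InRootSub J r → ∀ t : F, xG hD r t ∈ X := by
    refine RootWord.pos_induction G (fun i hi hni => ?_) (fun i hi r hr hr' hlt hco ih hni => ?_)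
    · by_contra hcon
      exact hni (inRootSub_simple G hi ⟨hi, hcon⟩)
    · by_cases hiJ : i ∈ J
      · have h1 : ¬ D.InRootSub J (D.reflectRoot i r) := by
          intro h2
          have := inRootSub_reflect G hi hiJ h2
          rw [G.reflect_reflect hi hr.1] at this
          exact hni this
        have h2 := hN i hiJ _ hr' (ih h1)
        rwa [G.reflect_reflect hi hr.1] at h2
      · have hip : ∀ t : F, xG hD (D.simple i) t ∈ X := by
          by_contra hcon
          exact hiJ ⟨hi, hcon⟩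
        by_cases hri : r = D.simple i
        · rw [hri]; exact hip
        obtain ⟨s, hs, hsi, hinc, c, hc, hcr, hC⟩ := string_fact hD hi hr hri ((G.reflect_lt_iff hi hr.1).1 hlt)
        have hp := G.simple_pos hi
        have e := xG_comm (F := F) hD (G.simple_lt hi) hs.1 hsi (ne_neg_of_pos hD hp hs) (-1) 1
        have hw : wordG hD (D.commWord F (D.simple i) s (-1) 1) ∈ X := by
          have e2 : wordG hD (D.commWord F (D.simple i) s (-1) 1) =
              (xG hD s (-1) * (xG hD (D.simple i) (-1))⁻¹ * (xG hD s (-1))⁻¹) * xG hD (D.simple i) (-1) := by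
            have e3 : wordG hD (D.commWord F (D.simple i) s (-1) 1) =
                (xG hD (D.simple i) (-1) * xG hD s 1)⁻¹ * (xG hD s 1 * xG hD (D.simple i) (-1)) := by
              rw [e]; group
            have e4 : xG hD s (-1 : F) = (xG hD s 1)⁻¹ := by rw [xG_inv]
            rw [e3, e4]
            group
          rw [e2]
          exact mul_mem (hU s hs _ _ (inv_mem (hip _))) (hip _)
        have hpos : ∀ p ∈ D.commWord F (D.simple i) s (-1) 1, D.IsPosRoot p.1 := by
          intro p hp'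
          obtain ⟨c', hc', hpc⟩ := UnipOrd.mem_commWord hp'
          rw [hpc, UnipOrd.isPosRoot_iff hD]
          have h1 := (UnipOrd.isPosRoot_iff hD _).1 hp
          have h2 := (UnipOrd.isPosRoot_iff hD _).1 hs
          have := UnipOrd.commTerms_ord hD h1.1 h2.1 hc'
          omega
        have hmap : (D.commWord F (D.simple i) s (-1) 1).map Prod.fst = (D.commTerms (D.simple i) s).map Prod.fst := by
          show ((D.commTerms (D.simple i) s).map _).map Prod.fst = _
          rw [List.map_map]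
          rfl
        have hmem : (c.1, (c.2.1 : F) * (-(-1)) ^ c.2.2.1 * 1 ^ c.2.2.2) ∈ D.commWord F (D.simple i) s (-1) 1 :=
          List.mem_map.2 ⟨c, hc, rfl⟩
        have h3 := word_roots hroot _ hpos (by rw [hmap]; exact hinc) hw _ hmem (by
          show (c.2.1 : F) * (-(-1)) ^ c.2.2.1 * 1 ^ c.2.2.2 ≠ 0
          rw [neg_neg, one_pow, one_pow, mul_one, mul_one]
          rcases hC with h | h <;> rw [h] <;> simp)
        rw [← hcr]
        exact h3
  have hC3 : ∀ r, D.IsPosRoot r → D.InRootSub J r → ¬ ∀ t : F, xG hD r t ∈ X := by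
    refine RootWord.pos_induction G (fun i hi hin => ?_) (fun i hi r hr hr' hlt hco ih hin hrX => ?_)
    · have hiJ : i ∈ J := by
        by_contra hiJ
        have h1 : RootCombGood.co D (D.simple i) i = 0 := hin.2 i hi hiJ
        rw [G.co_simple hi hi, if_pos rfl] at h1
        exact one_ne_zero h1
      exact hiJ.2
    · have hiJ : i ∈ J := by
        by_contra hiJ
        have h1 : RootCombGood.co D r i = 0 := hin.2 i hi hiJ
        have h2 : 0 < RootCombGood.co D r i := hco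
        omega
      exact ih (inRootSub_reflect G hi hiJ hin) (hN i hiJ r hr hrX)
  refine ⟨J, fun j hj => hj.1, le_antisymm ?_ ?_⟩
  · refine le_of_roots hXU hroot fun b hb hbX t => ?_
    exact Subgroup.subset_closure ⟨b, t, hb, fun hin => hC3 b hb hin hbX, rfl⟩
  · refine (Subgroup.closure_le _).2 ?_
    rintro g ⟨r, t, hr, hnr, hg⟩
    rw [(eq_xG_iff hD g r t).2 hg]
    exact hC2 r hr hnr t

end Cfsg.Agent.H96.WeakClosed
end

-- part: H96/WCTab
section
/-!
helper96: table checks for the theorem on weakly closed unipotent subgroups (S2244).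
Separation of pairs of positive roots by elements `h_{p_i}(a) h_{p_j}(b)` of the torus.
-/

set_option autoImplicit false

namespace Cfsg.Agent.H96.WCTab

open Cfsg.Lie Cfsg.Agent.ChevalleyStructure.RootVecTab

/-- `P ≠ Q` and `|P - Q| ≤ k`. -/
def near (k P Q : ℕ) : Bool := !(Nat.beq P Q) && (Nat.ble P (Nat.add Q k) && Nat.ble Q (Nat.add P k))

/-- `x A_i + y A_j` (or `y A_j - x A_i`) vanishes on `b` and is non-zero and at most `k` on `c`. -/
def sepX (D : ChevalleyDatum) (k b c i j x y : ℕ) : Bool :=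
  (Nat.beq (Nat.add (Nat.mul y (cart D j b)) (Nat.mul x (cart D i b))) (Nat.add (Nat.mul 8 y) (Nat.mul 8 x)) &&
    near k (Nat.add (Nat.mul y (cart D j c)) (Nat.mul x (cart D i c))) (Nat.add (Nat.mul 8 y) (Nat.mul 8 x))) ||
  (Nat.beq (Nat.add (Nat.mul y (cart D j b)) (Nat.mul 8 x)) (Nat.add (Nat.mul x (cart D i b)) (Nat.mul 8 y)) &&
    near k (Nat.add (Nat.mul y (cart D j c)) (Nat.mul 8 x)) (Nat.add (Nat.mul x (cart D i c)) (Nat.mul 8 y)))

/-- Separation of `b` and `c`. -/
def sep (D : ChevalleyDatum) (k b c : ℕ) : Bool :=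
  anyLT (fun j => sepX D k b c 0 j 0 1) D.rank ||
    anyLT (fun x => anyLT (fun y => anyLT (fun j => anyLT (fun i => sepX D k b c i j (Nat.succ x) (Nat.succ y))
      D.rank) D.rank) 3) 3

/-- `b` is not orthogonal to all fundamental roots (with Cartan integer `±1` or `±2`). -/
def act (D : ChevalleyDatum) (b : ℕ) : Bool := anyLT (fun i => near 2 (cart D i b) 8) D.rank

/-- Both checks for the roots `b` with `lo ≤ b < lo + n` against all higher roots. -/
def chkSep (D : ChevalleyDatum) (k lo n : ℕ) : Bool :=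
  allLT (fun b' => act D (Nat.add lo b') &&
    allLT (fun c' => sep D k (Nat.add lo b') (Nat.add (Nat.add lo b') (Nat.succ c')))
      (Nat.sub (Nat.sub D.nroots 1) (Nat.add lo b'))) n

/-- The same with the pairs of long roots of `G₂` left out. -/
def chkSepG (D : ChevalleyDatum) (k lo n : ℕ) : Bool :=
  allLT (fun b' => act D (Nat.add lo b') &&
    allLT (fun c' => sep D k (Nat.add lo b') (Nat.add (Nat.add lo b') (Nat.succ c')) ||
      (Nat.beq (Nat.add lo b') 6 && Nat.beq (Nat.add (Nat.add lo b') (Nat.succ c')) 10) ||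
      (Nat.beq (Nat.add lo b') 6 && Nat.beq (Nat.add (Nat.add lo b') (Nat.succ c')) 11) ||
      (Nat.beq (Nat.add lo b') 10 && Nat.beq (Nat.add (Nat.add lo b') (Nat.succ c')) 11))
      (Nat.sub (Nat.sub D.nroots 1) (Nat.add lo b'))) n

set_option maxRecDepth 100000 in
theorem chkSep_B2 : chkSep chevB2 2 4 4 = true := by decide +kernel
set_option maxRecDepth 100000 in
theorem chkSep_G2 : chkSep chevG2 3 6 6 = true := by decide +kernel
set_option maxRecDepth 100000 in
theorem chkSepG_G2 : chkSepG chevG2 2 6 6 = true := by decide +kernel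
set_option maxRecDepth 100000 in
theorem chkSep_D4 : chkSep chevD4 2 12 12 = true := by decide +kernel
set_option maxRecDepth 100000 in
theorem chkSep_F4 : chkSep chevF4 2 24 24 = true := by decide +kernel
set_option maxRecDepth 100000 in
theorem chkSep_E6 : chkSep chevE6 1 36 36 = true := by decide +kernel
set_option maxRecDepth 100000 in
theorem chkSep_E7 : chkSep chevE7 1 63 63 = true := by decide +kernel

theorem allLT_add' {f g : ℕ → Bool} {n m : ℕ} (h1 : allLT f n = true) (h2 : allLT g m = true)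
    (h : ∀ i, g i = f (Nat.add n i)) : allLT f (Nat.add n m) = true := by
  induction m with
  | zero => exact h1
  | succ m ih =>
    have h3 : (g m && allLT g m) = true := h2
    rw [Bool.and_eq_true] at h3
    change (f (Nat.add n m) && allLT f (Nat.add n m)) = true
    rw [← h, h3.1, ih h3.2]
    rfl

theorem chkSep_add {D : ChevalleyDatum} {k lo n m : ℕ} (h1 : chkSep D k lo n = true)
    (h2 : chkSep D k (Nat.add lo n) m = true) : chkSep D k lo (Nat.add n m) = true :=
  allLT_add' h1 h2 fun i => congrArg (fun b => act D b &&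
    allLT (fun c' => sep D k b (Nat.add b (Nat.succ c'))) (Nat.sub (Nat.sub D.nroots 1) b)) (Nat.add_assoc lo n i)

set_option maxRecDepth 100000 in
theorem chkSep_E8_a : chkSep chevE8 1 120 16 = true := by decide +kernel
set_option maxRecDepth 100000 in
theorem chkSep_E8_b : chkSep chevE8 1 136 19 = true := by decide +kernel
set_option maxRecDepth 100000 in
theorem chkSep_E8_c : chkSep chevE8 1 155 25 = true := by decide +kernel
set_option maxRecDepth 100000 in
theorem chkSep_E8_d : chkSep chevE8 1 180 60 = true := by decide +kernel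

theorem chkSep_E8 : chkSep chevE8 1 120 120 = true :=
  chkSep_add (n := 16) (m := 104) chkSep_E8_a
    (chkSep_add (n := 19) (m := 85) chkSep_E8_b (chkSep_add (n := 25) (m := 60) chkSep_E8_c chkSep_E8_d))

end Cfsg.Agent.H96.WCTab
end

-- part: H96/WeakClosedSep
section
/-!
helper96: separation of the positive roots by the torus, and the main theorem on weakly closed unipotent subgroups.
-/

set_option autoImplicit false

namespace Cfsg.Agent.H96.WeakClosed

open Cfsg.Lie Cfsg.Agent.ChevalleyStructure.Elts Cfsg.Agent.ChevalleyStructure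
open Cfsg.Agent.ChevalleyStructure.UnipProd

universe u

variable {F : Type u} [Field F] {D : ChevalleyDatum}

theorem near_iff {k P Q : ℕ} : WCTab.near k P Q = true ↔ P ≠ Q ∧ P ≤ Q + k ∧ Q ≤ P + k := by
  show (!(Nat.beq P Q) && (Nat.ble P (Nat.add Q k) && Nat.ble Q (Nat.add P k))) = true ↔ _
  rw [Bool.and_eq_true, Bool.and_eq_true, RootVec.ble_iff, RootVec.ble_iff, Bool.not_eq_true', ← Bool.not_eq_true,
    RootVec.beq_iff]
  exact Iff.rfl

/-- The result of the separation check for one pair. -/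
def SepZ (D : ChevalleyDatum) (k b c : ℕ) : Prop :=
  ∃ i < D.rank, ∃ j < D.rank, ∃ x y : ℤ, x * D.cartan i b + y * D.cartan j b = 0 ∧
    x * D.cartan i c + y * D.cartan j c ≠ 0 ∧ |x * D.cartan i c + y * D.cartan j c| ≤ k

theorem sepZ_of_sepX (h : RootVecTab.Checked D) {k b c i j x y : ℕ} (hi : i < D.rank) (hj : j < D.rank)
    (hb : b < D.nroots) (hc : c < D.nroots) (hs : WCTab.sepX D k b c i j x y = true) : SepZ D k b c := by
  unfold WCTab.sepX at hs
  rw [Bool.or_eq_true, Bool.and_eq_true, Bool.and_eq_true, near_iff, near_iff, RootVec.beq_iff, RootVec.beq_iff] at hs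
  have h1 := RootVec.cartan_eq_cart h hi hb
  have h2 := RootVec.cartan_eq_cart h hj hb
  have h3 := RootVec.cartan_eq_cart h hi hc
  have h4 := RootVec.cartan_eq_cart h hj hc
  rcases hs with ⟨e1, e2, e3, e4⟩ | ⟨e1, e2, e3, e4⟩
  · refine ⟨i, hi, j, hj, x, y, ?_, ?_, ?_⟩
    · rw [h1, h2]
      have e1' : y * RootVecTab.cart D j b + x * RootVecTab.cart D i b = 8 * y + 8 * x := e1
      zify at e1'
      linarith
    · rw [h3, h4]
      have e2' : y * RootVecTab.cart D j c + x * RootVecTab.cart D i c ≠ 8 * y + 8 * x := e2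
      intro h0
      apply e2'
      zify
      linarith
    · rw [h3, h4, abs_le]
      have e3' : y * RootVecTab.cart D j c + x * RootVecTab.cart D i c ≤ 8 * y + 8 * x + k := e3
      have e4' : 8 * y + 8 * x ≤ y * RootVecTab.cart D j c + x * RootVecTab.cart D i c + k := e4
      zify at e3' e4'
      constructor <;> linarith
  · refine ⟨i, hi, j, hj, -x, y, ?_, ?_, ?_⟩
    · rw [h1, h2]
      have e1' : y * RootVecTab.cart D j b + 8 * x = x * RootVecTab.cart D i b + 8 * y := e1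
      zify at e1'
      linarith
    · rw [h3, h4]
      have e2' : y * RootVecTab.cart D j c + 8 * x ≠ x * RootVecTab.cart D i c + 8 * y := e2
      intro h0
      apply e2'
      zify
      linarith
    · rw [h3, h4, abs_le]
      have e3' : y * RootVecTab.cart D j c + 8 * x ≤ x * RootVecTab.cart D i c + 8 * y + k := e3
      have e4' : x * RootVecTab.cart D i c + 8 * y ≤ y * RootVecTab.cart D j c + 8 * x + k := e4
      zify at e3' e4'
      constructor <;> linarith

theorem sepZ_of_sep (h : RootVecTab.Checked D) {k b c : ℕ}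
    (hb : b < D.nroots) (hc : c < D.nroots) (hs : WCTab.sep D k b c = true) : SepZ D k b c := by
  unfold WCTab.sep at hs
  rw [Bool.or_eq_true, RootVec.anyLT_iff, RootVec.anyLT_iff] at hs
  rcases hs with ⟨j, hj, hs⟩ | ⟨x, -, hs⟩
  · exact sepZ_of_sepX h (by omega) hj hb hc hs
  · obtain ⟨y, -, hs⟩ := (RootVec.anyLT_iff _ _).1 hs
    obtain ⟨j, hj, hs⟩ := (RootVec.anyLT_iff _ _).1 hs
    obtain ⟨i, hi, hs⟩ := (RootVec.anyLT_iff _ _).1 hs
    exact sepZ_of_sepX h hi hj hb hc hs

def Act (D : ChevalleyDatum) (b : ℕ) : Prop :=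
  ∃ i < D.rank, D.cartan i b = 1 ∨ D.cartan i b = -1 ∨ D.cartan i b = 2 ∨ D.cartan i b = -2

theorem act_sound (h : RootVecTab.Checked D) {b : ℕ} (hb : b < D.nroots) (hs : WCTab.act D b = true) : Act D b := by
  unfold WCTab.act at hs
  obtain ⟨i, hi, hs⟩ := (RootVec.anyLT_iff _ _).1 hs
  rw [near_iff] at hs
  have h1 := RootVec.cartan_eq_cart h hi hb
  exact ⟨i, hi, by omega⟩

theorem chkSep_sound (h : RootVecTab.Checked D) {k lo n : ℕ} (hn : D.nroots ≤ lo + n) (hs : WCTab.chkSep D k lo n = true) {b : ℕ}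
    (hlo : lo ≤ b) (hb : b < D.nroots) : Act D b ∧ ∀ c, b < c → c < D.nroots → SepZ D k b c := by
  unfold WCTab.chkSep at hs
  have h1 := (RootVec.allLT_iff _ _).1 hs (b - lo) (by omega)
  have eb : Nat.add lo (b - lo) = b := by show lo + (b - lo) = b; omega
  simp only [eb, Bool.and_eq_true] at h1
  refine ⟨act_sound h hb h1.1, fun c hc hc' => ?_⟩
  have h2 := (RootVec.allLT_iff _ _).1 h1.2 (c - b - 1) (by show c - b - 1 < D.nroots - 1 - b; omega)
  have ec : Nat.add b (Nat.succ (c - b - 1)) = c := by show b + (c - b - 1 + 1) = c; omega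
  rw [ec] at h2
  exact sepZ_of_sep h hb hc' h2

theorem chkSepG_sound (h : RootVecTab.Checked D) {k lo n : ℕ} (hn : D.nroots ≤ lo + n) (hs : WCTab.chkSepG D k lo n = true) {b : ℕ}
    (hlo : lo ≤ b) (hb : b < D.nroots) : ∀ c, b < c → c < D.nroots → SepZ D k b c ∨
      (b = 6 ∧ c = 10) ∨ (b = 6 ∧ c = 11) ∨ (b = 10 ∧ c = 11) := by
  unfold WCTab.chkSepG at hs
  have h1 := (RootVec.allLT_iff _ _).1 hs (b - lo) (by omega)
  have eb : Nat.add lo (b - lo) = b := by show lo + (b - lo) = b; omega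
  simp only [eb, Bool.and_eq_true] at h1
  intro c hc hc'
  have h2 := (RootVec.allLT_iff _ _).1 h1.2 (c - b - 1) (by show c - b - 1 < D.nroots - 1 - b; omega)
  have ec : Nat.add b (Nat.succ (c - b - 1)) = c := by show b + (c - b - 1 + 1) = c; omega
  simp only [ec, Bool.or_eq_true, Bool.and_eq_true, RootVec.beq_iff] at h2
  rcases h2 with ((h2 | h2) | h2) | h2
  · exact Or.inl (sepZ_of_sep h hb hc' h2)
  · exact Or.inr (Or.inl h2)
  · exact Or.inr (Or.inr (Or.inl h2))
  · exact Or.inr (Or.inr (Or.inr h2))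

/-- In a field with more than `k + 1` elements some `λ` has `λ ^ m ≠ 1` for `0 < |m| ≤ k`. -/
theorem exists_lam [Fintype F] {k : ℕ} (hk : k + 1 < Fintype.card F) :
    ∃ l : F, l ≠ 0 ∧ ∀ m : ℤ, m ≠ 0 → |m| ≤ k → l ^ m ≠ 1 := by
  classical
  obtain ⟨g, hg⟩ := IsCyclic.exists_generator (α := Fˣ)
  refine ⟨g, g.ne_zero, fun m hm hmk h1 => ?_⟩
  have h2 : g ^ m = 1 := Units.ext (by rw [Units.val_zpow_eq_zpow_val]; exact h1)
  have h3 : ((orderOf g : ℕ) : ℤ) ∣ m := orderOf_dvd_iff_zpow_eq_one.2 h2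
  rw [orderOf_eq_card_of_forall_mem_zpowers hg, Nat.card_eq_fintype_card, Fintype.card_units] at h3
  have h4 := Int.le_of_dvd (abs_pos.2 hm) ((dvd_abs _ _).2 h3)
  omega

theorem sep_of_sepZ {hD : InList D} {X : Subgroup (GL D.Idx F)} (hX : TStable hD X) {k b c : ℕ} {l : F} (hl : l ≠ 0)
    (hlm : ∀ m : ℤ, m ≠ 0 → |m| ≤ k → l ^ m ≠ 1) (hs : SepZ D k b c) : Sep hD X b c := by
  obtain ⟨i, hi, j, hj, x, y, h0, h1, h2⟩ := hs
  have hx : l ^ x ≠ 0 := zpow_ne_zero _ hl
  have hy : l ^ y ≠ 0 := zpow_ne_zero _ hl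
  have key : ∀ s, (l ^ x) ^ (D.cartan i s) * (l ^ y) ^ (D.cartan j s) =
      l ^ (x * D.cartan i s + y * D.cartan j s) := by
    intro s
    rw [zpow_add₀ hl, zpow_mul, zpow_mul]
  refine ⟨_, _, (tor_hG hD hi hx).mul (tor_hG hD hj hy), (hX.torus i hi _ hx).mul (hX.torus j hj _ hy), ?_, ?_⟩
  · show (l ^ x) ^ (D.cartan i b) * (l ^ y) ^ (D.cartan j b) = 1
    rw [key, h0, zpow_zero]
  · show (l ^ x) ^ (D.cartan i c) * (l ^ y) ^ (D.cartan j c) ≠ 1
    rw [key]
    exact hlm _ h1 h2

end Cfsg.Agent.H96.WeakClosed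
end

-- part: H96/WeakClosedG2
section
/-!
helper96: the group `G₂(4)`: the three positive long roots (6, 10, 11) are not separated by the torus; commutators in
`U` replace the torus.
-/

set_option autoImplicit false

namespace Cfsg.Agent.H96.WeakClosed

open Cfsg.Lie Cfsg.Agent.ChevalleyStructure.Elts Cfsg.Agent.ChevalleyStructure
open Cfsg.Agent.ChevalleyStructure.UnipProd

universe u

variable {F : Type u} [Field F]

theorem inListG2 : InList chevG2 := by simp [InList]

theorem ct_7_6 : chevG2.commTerms 7 6 = [(8, -1, 1, 1), (9, 1, 2, 1), (10, 1, 3, 1), (11, 1, 3, 2)] := by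
  decide +kernel
theorem ct_7_8 : chevG2.commTerms 7 8 = [(9, -2, 1, 1), (10, -3, 2, 1), (11, 3, 1, 2)] := by decide +kernel
theorem ct_6_10 : chevG2.commTerms 6 10 = [(11, 1, 1, 1)] := by decide +kernel
theorem ct_6_11 : chevG2.commTerms 6 11 = [] := by decide +kernel
theorem ct_7_ge : ∀ c ∈ [8, 9, 10, 11], ∀ e ∈ chevG2.commTerms 7 c, 9 ≤ e.1 := by decide +kernel
theorem pos_G2 : ∀ c ∈ [6, 7, 8, 9, 10, 11], chevG2.IsPosRoot c := by decide +kernel

theorem pos_iff_G2 (c : ℕ) : chevG2.IsPosRoot c ↔ 6 ≤ c ∧ c < 12 := UnipOrd.isPosRoot_iff inListG2 c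

/-- `U` acts trivially on `U_c / U_{c+1}`. -/
theorem conj_top {D : ChevalleyDatum} (hD : InList D) {c : ℕ} (hc : D.IsPosRoot c) {g : GL D.Idx F}
    (hg : g ∈ D.posUnipotent F) (u : F) : (xG hD c u)⁻¹ * (g⁻¹ * xG hD c u * g) ∈ unipGE D F (c + 1) := by
  let K : Subgroup (GL D.Idx F) :=
    { carrier := {g | g ∈ D.posUnipotent F ∧ (xG hD c u)⁻¹ * (g⁻¹ * xG hD c u * g) ∈ unipGE D F (c + 1)}
      one_mem' := ⟨one_mem _, by simp⟩
      mul_mem' := by
        rintro a b ⟨ha, ha'⟩ ⟨hb, hb'⟩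
        refine ⟨mul_mem ha hb, ?_⟩
        have e : (xG hD c u)⁻¹ * ((a * b)⁻¹ * xG hD c u * (a * b)) =
            ((xG hD c u)⁻¹ * (b⁻¹ * xG hD c u * b)) *
              (b⁻¹ * ((xG hD c u)⁻¹ * (a⁻¹ * xG hD c u * a)) * b⁻¹⁻¹) := by group
        rw [e]
        exact mul_mem hb' (conj_mem_of_mem_posUnipotent hD (inv_mem hb) ha')
      inv_mem' := by
        rintro a ⟨ha, ha'⟩
        refine ⟨inv_mem ha, ?_⟩
        have e : (xG hD c u)⁻¹ * (a⁻¹⁻¹ * xG hD c u * a⁻¹) =
            (a * ((xG hD c u)⁻¹ * (a⁻¹ * xG hD c u * a)) * a⁻¹)⁻¹ := by group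
        rw [e]
        exact inv_mem (conj_mem_of_mem_posUnipotent hD ha ha') }
  have hle : D.posUnipotent F ≤ K := (posUnipotent_le_iff hD K).2 fun r hr s => by
    refine ⟨xG_mem_posUnipotent hD hr s, ?_⟩
    by_cases h : c = r
    · subst h
      have : (xG hD c u)⁻¹ * ((xG hD c s)⁻¹ * xG hD c u * xG hD c s) = 1 := by
        rw [xG_inv, xG_inv, xG_add, xG_add, xG_add]
        have : -u + (-s + u + s) = 0 := by ring
        rw [this, xG_zero]
      rw [this]; exact one_mem _
    · have e := xG_comm (F := F) hD hr.1 hc.1 h (ne_neg_of_pos hD hr hc) s u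
      have e2 : (xG hD c u)⁻¹ * ((xG hD r s)⁻¹ * xG hD c u * xG hD r s) =
          wordG hD (D.commWord F r c s u) := by
        rw [mul_assoc (xG hD r s)⁻¹, e]
        group
      rw [e2]
      exact wordG_commWord_mem hD hr hc s u (Or.inr le_rfl)
  exact (hle hg).2

local notation "X₂" => xG (F := F) inListG2

/-- `[v, x_7(s)] ∈ U_9` for `v ∈ U_7`. -/
theorem comm_seven (s : F) {v : GL chevG2.Idx F} (hv : v ∈ unipGE chevG2 F 7) :
    v⁻¹ * (X₂ 7 s)⁻¹ * v * X₂ 7 s ∈ unipGE chevG2 F 9 := by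
  have hgen : ∀ c, chevG2.IsPosRoot c → 7 ≤ c → ∀ u : F,
      (X₂ 7 s)⁻¹ * X₂ c u * X₂ 7 s * (X₂ c u)⁻¹ ∈ unipGE chevG2 F 9 := by
    intro c hc h7 u
    have hc' := (pos_iff_G2 c).1 hc
    by_cases h : c = 7
    · subst h
      have : (X₂ 7 s)⁻¹ * X₂ 7 u * X₂ 7 s * (X₂ 7 u)⁻¹ = 1 := by
        rw [xG_inv, xG_inv, xG_add, xG_add, xG_add]
        have : -s + u + s + -u = 0 := by ring
        rw [this, xG_zero]
      rw [this]; exact one_mem _
    · have e := xG_comm (F := F) inListG2 (r := 7) (s := c) (by decide) hc.1 h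
        (ne_neg_of_pos inListG2 ((pos_iff_G2 7).2 (by omega)) hc) s u
      have hW : wordG inListG2 (chevG2.commWord F 7 c s u) ∈ unipGE chevG2 F 9 := by
        refine mem_of_xG_mem inListG2 fun p hp => ?_
        obtain ⟨c', hc1, hpc⟩ := UnipOrd.mem_commWord hp
        have h9 : 9 ≤ c'.1 := ct_7_ge c (by simp; omega) c' hc1
        have hlt := (UnipOrd.commTerms_ord inListG2 (r := 7) (s := c) (by decide) hc'.1 hc1).2.2
        rw [hpc]
        exact xG_mem_unipGE inListG2 ((pos_iff_G2 _).2 ⟨by omega, hlt⟩) h9 _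
      have e2 : (X₂ 7 s)⁻¹ * X₂ c u * X₂ 7 s * (X₂ c u)⁻¹ =
          X₂ c u * wordG inListG2 (chevG2.commWord F 7 c s u) * (X₂ c u)⁻¹ := by
        have e3 : X₂ c u * X₂ 7 s = X₂ 7 s * X₂ c u * wordG inListG2 (chevG2.commWord F 7 c s u) := e
        rw [mul_assoc (X₂ 7 s)⁻¹, e3]
        group
      rw [e2]
      exact conj_mem_of_mem_posUnipotent inListG2 (xG_mem_posUnipotent inListG2 hc u) hW
  -- `{v | x⁻¹ v x v⁻¹ ∈ U_9}` is a subgroup of `U`
  let K : Subgroup (GL chevG2.Idx F) :=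
    { carrier := {v | v ∈ chevG2.posUnipotent F ∧ (X₂ 7 s)⁻¹ * v * X₂ 7 s * v⁻¹ ∈ unipGE chevG2 F 9}
      one_mem' := ⟨one_mem _, by simp⟩
      mul_mem' := by
        rintro a b ⟨ha, ha'⟩ ⟨hb, hb'⟩
        refine ⟨mul_mem ha hb, ?_⟩
        have e : (X₂ 7 s)⁻¹ * (a * b) * X₂ 7 s * (a * b)⁻¹ =
            ((X₂ 7 s)⁻¹ * a * X₂ 7 s * a⁻¹) * (a * ((X₂ 7 s)⁻¹ * b * X₂ 7 s * b⁻¹) * a⁻¹) := by group
        rw [e]
        exact mul_mem ha' (conj_mem_of_mem_posUnipotent inListG2 ha hb')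
      inv_mem' := by
        rintro a ⟨ha, ha'⟩
        refine ⟨inv_mem ha, ?_⟩
        have e : (X₂ 7 s)⁻¹ * a⁻¹ * X₂ 7 s * a⁻¹⁻¹ =
            a⁻¹ * (a * ((X₂ 7 s)⁻¹ * a * X₂ 7 s)⁻¹) * a⁻¹⁻¹ := by group
        rw [e]
        refine conj_mem_of_mem_posUnipotent inListG2 (inv_mem ha) ?_
        have := inv_mem ha'
        rwa [mul_inv_rev, inv_inv] at this }
  have hle : unipGE chevG2 F 7 ≤ K := (unipGE_le_iff inListG2 7 K).2 fun c hc h7 u =>
    ⟨xG_mem_posUnipotent inListG2 hc u, hgen c hc h7 u⟩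
  have h1 := (hle hv).2
  have e : v⁻¹ * (X₂ 7 s)⁻¹ * v * X₂ 7 s = v⁻¹ * ((X₂ 7 s)⁻¹ * v * X₂ 7 s * v⁻¹) * v⁻¹⁻¹ := by group
  rw [e]
  exact conj_mem_of_mem_posUnipotent inListG2 (inv_mem (hle hv).1) h1

theorem lead_eleven {X : Subgroup (GL chevG2.Idx F)} (hU : ∀ r, chevG2.IsPosRoot r → ∀ t : F, Nrm X (X₂ r t))
    (hl : Lead inListG2 X 10) : Lead inListG2 X 11 := by
  obtain ⟨t, ht, v, hv, hX⟩ := hl
  have p6 := (pos_iff_G2 6).2 (by omega)
  have p10 := (pos_iff_G2 10).2 (by omega)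
  have p11 := (pos_iff_G2 11).2 (by omega)
  obtain ⟨w, v', hv', rfl⟩ := exists_of_mem_unipGE inListG2 p11 hv
  rw [unipGE_eq_bot inListG2 F (by decide), Subgroup.mem_bot] at hv'
  subst hv'
  rw [mul_one] at hX
  have e1 : X₂ 10 t * X₂ 6 1 = X₂ 6 1 * X₂ 10 t * X₂ 11 (-t) := by
    have := xG_comm (F := F) inListG2 (r := 6) (s := 10) p6.1 p10.1 (by decide) (ne_neg_of_pos inListG2 p6 p10) 1 t
    have hw : chevG2.commWord F 6 10 1 t = [(11, -t)] := by
      show (chevG2.commTerms 6 10).map _ = _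
      rw [ct_6_10]
      simp
    rw [hw, wordG_cons, wordG_nil, mul_one] at this
    exact this
  have e2 : X₂ 11 w * X₂ 6 1 = X₂ 6 1 * X₂ 11 w := by
    have := xG_comm (F := F) inListG2 (r := 6) (s := 11) p6.1 p11.1 (by decide) (ne_neg_of_pos inListG2 p6 p11) 1 w
    have hw : chevG2.commWord F 6 11 1 w = [] := by
      show (chevG2.commTerms 6 11).map _ = _
      rw [ct_6_11]
      simp
    rw [hw, wordG_nil, mul_one] at this
    exact this
  have h1 := hU 6 p6 (-1) _ hX
  rw [xG_inv, neg_neg] at h1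
  have h2 := mul_mem (inv_mem hX) h1
  refine ⟨-t, neg_ne_zero.2 ht, 1, one_mem _, ?_⟩
  rw [mul_one]
  have e3 : (X₂ 10 t * X₂ 11 w)⁻¹ * (X₂ 6 (-1) * (X₂ 10 t * X₂ 11 w) * X₂ 6 1) = X₂ 11 (-t) := by
    have e4 : X₂ 10 t * X₂ 11 w * X₂ 6 1 = X₂ 6 1 * (X₂ 10 t * X₂ 11 (-t) * X₂ 11 w) := by
      rw [mul_assoc, e2, ← mul_assoc, e1]
      group
    have e5 : X₂ 6 (-1) = (X₂ 6 1)⁻¹ := by rw [xG_inv]
    rw [mul_assoc (X₂ 6 (-1)), e4, e5, inv_mul_cancel_left]
    have e6 : X₂ 11 (-t) * X₂ 11 w = X₂ 11 w * X₂ 11 (-t) := by rw [xG_add, xG_add, add_comm]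
    rw [mul_assoc (X₂ 10 t), e6]
    group
  rwa [e3] at h2

theorem lead_eight {X : Subgroup (GL chevG2.Idx F)} (hU : ∀ r, chevG2.IsPosRoot r → ∀ t : F, Nrm X (X₂ r t))
    (hl : Lead inListG2 X 6) : Lead inListG2 X 8 := by
  obtain ⟨t, ht, v, hv, hX⟩ := hl
  have p6 := (pos_iff_G2 6).2 (by omega)
  have p7 := (pos_iff_G2 7).2 (by omega)
  have e := xG_comm (F := F) inListG2 (r := 7) (s := 6) p7.1 p6.1 (by decide) (ne_neg_of_pos inListG2 p7 p6) 1 t
  have hw : chevG2.commWord F 7 6 1 t = (8, t) :: [(9, t), (10, -t), (11, -(t ^ 2))] := by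
    show (chevG2.commTerms 7 6).map _ = _
    rw [ct_7_6]
    simp only [List.map_cons, List.map_nil]
    congr 2
    · push_cast; ring
    congr 2
    · push_cast; ring
    congr 2
    · push_cast; ring
    congr 2
    · push_cast; ring
  rw [hw, wordG_cons] at e
  set W := wordG inListG2 [(9, t), (10, -t), (11, -(t ^ 2))] with hWdef
  have hW : W ∈ unipGE chevG2 F 9 := by
    refine mem_of_xG_mem inListG2 fun p hp => ?_
    simp only [List.mem_cons, List.not_mem_nil, or_false] at hp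
    rcases hp with rfl | rfl | rfl
    · exact xG_mem_unipGE inListG2 (r := 9) ((pos_iff_G2 _).2 (by omega)) (by norm_num) _
    · exact xG_mem_unipGE inListG2 (r := 10) ((pos_iff_G2 _).2 (by omega)) (by norm_num) _
    · exact xG_mem_unipGE inListG2 (r := 11) ((pos_iff_G2 _).2 (by omega)) (by norm_num) _
  have h1 := hU 7 p7 (-1) _ hX
  rw [xG_inv, neg_neg] at h1
  have h2 := mul_mem (inv_mem hX) h1
  -- `[x_6(t) v, x_7(1)] = v⁻¹ x_8(t) W v [v, x_7(1)]`
  have e5 : X₂ 7 (-1) = (X₂ 7 1)⁻¹ := by rw [xG_inv]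
  have e3 : (X₂ 6 t * v)⁻¹ * (X₂ 7 (-1) * (X₂ 6 t * v) * X₂ 7 1) =
      v⁻¹ * X₂ 8 t * v * ((v⁻¹ * W * v⁻¹⁻¹) * (v⁻¹ * (X₂ 7 1)⁻¹ * v * X₂ 7 1)) := by
    rw [e5]
    have e6 : (X₂ 7 1)⁻¹ * X₂ 6 t * X₂ 7 1 = X₂ 6 t * (X₂ 8 t * W) := by
      rw [mul_assoc, e]; group
    have e7 : (X₂ 7 1)⁻¹ * (X₂ 6 t * v) * X₂ 7 1 = ((X₂ 7 1)⁻¹ * X₂ 6 t * X₂ 7 1) * ((X₂ 7 1)⁻¹ * v * X₂ 7 1) := by
      group
    rw [e7, e6]
    group
  rw [e3] at h2
  have hvU : v ∈ chevG2.posUnipotent F := by
    rw [← unipGE_eq_posUnipotent inListG2 F (Nat.zero_le _)]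
    exact unipGE_antitone _ F (Nat.zero_le _) hv
  have h3 : (v⁻¹ * W * v⁻¹⁻¹) * (v⁻¹ * (X₂ 7 1)⁻¹ * v * X₂ 7 1) ∈ unipGE chevG2 F 9 :=
    mul_mem (conj_mem_of_mem_posUnipotent inListG2 (inv_mem hvU) hW) (comm_seven 1 hv)
  -- `v⁻¹ x_8(t) v ∈ x_8(t) U_9`
  have p8 := (pos_iff_G2 8).2 (by omega)
  have h4 := conj_top inListG2 p8 hvU t
  refine ⟨t, ht, _, mul_mem h4 h3, ?_⟩
  have e8 : X₂ 8 t * ((X₂ 8 t)⁻¹ * (v⁻¹ * X₂ 8 t * v) * ((v⁻¹ * W * v⁻¹⁻¹) * (v⁻¹ * (X₂ 7 1)⁻¹ * v * X₂ 7 1))) =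
      v⁻¹ * X₂ 8 t * v * ((v⁻¹ * W * v⁻¹⁻¹) * (v⁻¹ * (X₂ 7 1)⁻¹ * v * X₂ 7 1)) := by
    rw [mul_assoc, mul_inv_cancel_left]
  rw [e8]
  exact h2

/-- In characteristic two, if `X_8 ≤ X` then `X` has an element with leading root 10. -/
theorem lead_ten (h2 : (2 : F) = 0) {X : Subgroup (GL chevG2.Idx F)}
    (hU : ∀ r, chevG2.IsPosRoot r → ∀ t : F, Nrm X (X₂ r t)) (h8 : ∀ t : F, X₂ 8 t ∈ X) : Lead inListG2 X 10 := by
  have p7 := (pos_iff_G2 7).2 (by omega)
  have p8 := (pos_iff_G2 8).2 (by omega)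
  have p11 := (pos_iff_G2 11).2 (by omega)
  have e := xG_comm (F := F) inListG2 (r := 7) (s := 8) p7.1 p8.1 (by decide) (ne_neg_of_pos inListG2 p7 p8) 1 1
  have hw : chevG2.commWord F 7 8 1 1 = [(9, 0), (10, -3), (11, -3)] := by
    show (chevG2.commTerms 7 8).map _ = _
    rw [ct_7_8]
    simp only [List.map_cons, List.map_nil]
    congr 2
    · push_cast
      have : (-2 : F) * (-1) ^ 1 * 1 ^ 1 = 2 := by ring
      rw [this, h2]
    congr 2
    · push_cast; ring
    congr 2
    · push_cast; ring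
  rw [hw, wordG_cons, wordG_cons, wordG_cons, wordG_nil, mul_one] at e
  have h1 := hU 7 p7 (-1) _ (h8 1)
  rw [xG_inv, neg_neg] at h1
  have h3 := mul_mem (inv_mem (h8 1)) h1
  have e5 : X₂ 7 (-1) = (X₂ 7 1)⁻¹ := by rw [xG_inv]
  have e6 : (X₂ 8 1)⁻¹ * (X₂ 7 (-1) * X₂ 8 1 * X₂ 7 1) = X₂ 10 (-3) * X₂ 11 (-3) := by
    have e7 : X₂ 9 (0 : F) = 1 := xG_zero inListG2 9
    rw [e5, mul_assoc (X₂ 7 1)⁻¹, e]
    show _ * ((X₂ 7 1)⁻¹ * (X₂ 7 1 * X₂ 8 1 * (X₂ 9 0 * (X₂ 10 (-3) * X₂ 11 (-3))))) = _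
    rw [e7]
    group
  rw [e6] at h3
  refine ⟨-3, ?_, X₂ 11 (-3), xG_mem_unipGE inListG2 p11 le_rfl _, h3⟩
  have : (-3 : F) = 1 - 2 * 2 := by norm_num
  rw [this, h2, mul_zero, sub_zero]
  exact one_ne_zero

end Cfsg.Agent.H96.WeakClosed
end
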